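import Cfsg.Agent.H66.M23.Five
import Cfsg.Agent.H717.M23.Sums_m3
import Cfsg.Agent.MonsterX.InstanceFinal_m3
import Cfsg.Agent.H875.M23.TraceChar
import Cfsg.Agent.H689.Rat
import Cfsg.Agent.H845.HNNineteen
import Cfsg.Agent.FastGrp
import Cfsg.Agent.Prune
set_option linter.all false

section
prune_inst 0x7f00000000000000000000000000000000000000000000000000000000000000000000000000000000000000000000000000000000000000000000000000000000000000000000000000000000000000003fffffffffffffffffffffffffffbeffbdffffffff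

-- part: H136/M23/BZ
section
set_option linter.all false
open scoped Cfsg.Agent.FastGrp

-- part: H136/M23/BMon
section
/-!
# Elements of order 5 of the monomial group `N` of the Monster (helper136)

Every element of order 5 of the monomial group `N` has fixed rank 8, so its centralizer is `5 × HN`.
-/

set_option autoImplicit false
set_option maxRecDepth 100000

namespace Cfsg.Agent.H136.M23.BMon

open Cfsg Cfsg.Agent.H241.Mon Cfsg.Agent.MonsterX.MainBasic
open Cfsg.Agent.LThreeMB (fr XX KChart.pi)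
open Cfsg.Agent.MonsterX Cfsg.Agent.MonsterX.InstData Cfsg.Agent.MonsterX.MainPack Cfsg.Agent.MonsterU
open Subgroup (centralizer zpowers mem_centralizer_singleton_iff)
open Cfsg.Spor (Co1)
open Cfsg.Agent.MonsterX.Conc
open Cfsg.Agent.H66.M23.Loc

/-- signed permutations of the coordinates -/
def Mon (A : Co0) : Prop := ∃ (σ : GolayPt → GolayPt) (s : GolayPt → ℤ), (∀ p, s p = 1 ∨ s p = -1) ∧
  ∀ (v : leechLattice) (p : GolayPt), ((A • v : leechLattice) : GolayPt → ℤ) p = s p * (v : GolayPt → ℤ) (σ p)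

theorem Mon.one : Mon 1 := ⟨fun p => p, fun _ => 1, fun _ => Or.inl rfl, fun v p => by rw [one_smul, one_mul]⟩

theorem Mon.mul {A B : Co0} (hA : Mon A) (hB : Mon B) : Mon (A * B) := by
  obtain ⟨σ, s, hs, h⟩ := hA
  obtain ⟨τ, t, ht, k⟩ := hB
  refine ⟨fun p => τ (σ p), fun p => s p * t (σ p), fun p => ?_, fun v p => ?_⟩
  · rcases hs p with h1 | h1 <;> rcases ht (σ p) with h2 | h2 <;> simp [h1, h2]
  · rw [mul_smul, h, k]
    ring

theorem Mon.pow {A : Co0} (hA : Mon A) (n : ℕ) : Mon (A ^ n) := by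
  induction n with
  | zero => rw [pow_zero]; exact Mon.one
  | succ n ih => rw [pow_succ]; exact ih.mul hA

theorem finite_co0 : Finite Co0 := CoFive.Class.finite_co0

theorem Mon.inv {A : Co0} (hA : Mon A) : Mon A⁻¹ := by
  have := finite_co0
  have h : A⁻¹ = A ^ (orderOf A - 1) := by
    have h1 : 0 < orderOf A := orderOf_pos A
    rw [inv_eq_iff_mul_eq_one, ← pow_succ', Nat.sub_add_cancel h1, pow_orderOf_eq_one]
  rw [h]
  exact hA.pow _

/-- The trace of a signed permutation of order 5 is not negative. -/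
theorem Mon.tr8_nonneg {A : Co0} (hA : Mon A) (h5 : A ^ 5 = 1) : 0 ≤ Co2Type.Mono.tr8 A := by
  obtain ⟨σ, s, hs, h⟩ := hA
  unfold Co2Type.Mono.tr8
  refine Finset.sum_nonneg fun i _ => ?_
  rw [h]
  by_cases hi : σ i = i
  · have h1 : ∀ v : leechLattice, ((A • v : leechLattice) : GolayPt → ℤ) i = s i * (v : GolayPt → ℤ) i := fun v => by
      rw [h, hi]
    have h2 : s i ^ 5 * 8 = 8 := by
      have e8v : ((SporadicStructure.Co0Base.e8 i : leechLattice) : GolayPt → ℤ) i = 8 := by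
        have : ((SporadicStructure.Co0Base.e8 i : leechLattice) : GolayPt → ℤ) = Pi.single i 8 := rfl
        rw [this, Pi.single_eq_same]
      have h3 : ((A ^ 5 • SporadicStructure.Co0Base.e8 i : leechLattice) : GolayPt → ℤ) i = s i ^ 5 * 8 := by
        rw [show A ^ 5 = A * (A * (A * (A * A))) by simp only [pow_succ, pow_zero, one_mul, mul_assoc], mul_smul, h1, mul_smul, h1, mul_smul, h1, mul_smul, h1, h1,
          e8v]
        ring
      rw [← h3, h5, one_smul, e8v]
    rcases hs i with h3 | h3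
    · rw [h3, hi, one_mul]
      have : ((SporadicStructure.Co0Base.e8 i : leechLattice) : GolayPt → ℤ) = Pi.single i 8 := rfl
      rw [this, Pi.single_eq_same]
      norm_num
    · rw [h3] at h2
      norm_num at h2
  · have : ((SporadicStructure.Co0Base.e8 i : leechLattice) : GolayPt → ℤ) = Pi.single i 8 := rfl
    rw [this, Pi.single_eq_of_ne hi, mul_zero]

/-- A signed permutation of order 5 has fixed rank 8. -/
theorem Mon.fr {A : Co0} (hA : Mon A) (ho : orderOf A = 5) : fr (QuotientGroup.mk A : Co1) = 2 ^ 8 := by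
  have h5 : A ^ 5 = 1 := by rw [← ho, pow_orderOf_eq_one]
  have h0 := hA.tr8_nonneg h5
  rcases CoFive.Class.main ho with h | h | h
  · rw [CoFive.Ranks.fr_of_isConj (CoFive.Ranks.isConj_mk h), CoFive.Ranks.fr_r8]
  · rw [CoFive.Dims.tr8_isConj h, CoFive.Dims.tr8_r4] at h0
    norm_num at h0
  · rw [CoFive.Dims.tr8_isConj h, CoFive.Dims.tr8_r0] at h0
    norm_num at h0

theorem mon_sign {A : Co0} {m : ℕ} (h : FrameStab.IsSign A m) : Mon A := by
  refine ⟨fun p => p, fun p => if m.testBit (SporadicA.M24Gens.pidx p) then -1 else 1, fun p => ?_, fun v p => ?_⟩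
  · by_cases h1 : m.testBit (SporadicA.M24Gens.pidx p) = true
    · right; exact if_pos h1
    · left; exact if_neg h1
  · rw [h]
    by_cases h1 : m.testBit (SporadicA.M24Gens.pidx p) = true <;> simp [h1]

theorem mon_perm {A : Co0} {σ : Equiv.Perm GolayPt} (h : FrameStab.IsPerm A σ) : Mon A :=
  ⟨fun p => σ.symm p, fun _ => 1, fun _ => Or.inl rfl, fun v p => by rw [h, one_mul]⟩

theorem mon_A {n : ℕ} (hn : n < 39) : Mon (CoGens.A n) := by
  by_cases h1 : n < 24
  · rw [CoGens.A_lt h1]; exact Mon.one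
  · by_cases h2 : n < 36
    · have h3 := mon_sign (CoGens.isSign_sg (i := n - 24) (by omega))
      rw [← CoGens.A_sg (by omega)] at h3
      rwa [show 24 + (n - 24) = n by omega] at h3
    · obtain rfl | rfl | rfl : n = 36 ∨ n = 37 ∨ n = 38 := by omega
      · exact mon_perm CoGens.isPerm_pS
      · exact mon_perm CoGens.isPerm_pC
      · exact mon_perm CoGens.isPerm_pI

/-- Every element of `N` induces a signed permutation. -/
theorem exists_mon (k : Space.V ≃ₗ[ℚ] Space.V) (hk : k ∈ Conc.N) : ∃ A, UOnto.Ind k A ∧ Mon A := by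
  unfold Conc.N at hk
  induction hk using Subgroup.closure_induction with
  | mem x hx =>
    obtain ⟨n, hn, rfl⟩ := hx
    exact ⟨_, UOnto.ind_E (by omega), mon_A hn⟩
  | one => exact ⟨1, UOnto.Ind.one, Mon.one⟩
  | mul x y _ _ hx hy =>
    obtain ⟨A, hA, hA'⟩ := hx
    obtain ⟨B, hB, hB'⟩ := hy
    exact ⟨A * B, hA.mul hB, hA'.mul hB'⟩
  | inv x _ hx =>
    obtain ⟨A, hA, hA'⟩ := hx
    exact ⟨A⁻¹, hA.inv, hA'.inv⟩

/-- the central involution -/
noncomputable abbrev zz : Gam := KDone.K.z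

/-- **An element of order 5 of `N` has fixed rank 8.** -/
theorem fr_eq {x : centralizer ({zz} : Set Gam)} (hx : orderOf x = 5) (hN : ((x : Gam) : Space.V ≃ₗ[ℚ] Space.V) ∈ Conc.N) :
    fr (KChart.pi MFive.Row.hc x) = 2 ^ 8 := by
  obtain ⟨A, hA, hm⟩ := exists_mon _ hN
  have hpi : KChart.pi MFive.Row.hc x = QuotientGroup.mk A := LThreeMB.KChart.pi_eq _ hA
  have ho : orderOf (KChart.pi MFive.Row.hc x) = 5 := MFive.orderOf_pi chart Nat.prime_five (by decide) hx
  have h5 : (QuotientGroup.mk A : Co1) ^ 5 = 1 := by rw [← hpi, ← ho, pow_orderOf_eq_one]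
  have h5' := h5
  rw [← QuotientGroup.mk_pow, QuotientGroup.eq_one_iff] at h5'
  have h10 : (A ^ 5) ^ 2 = 1 := CoFive.Ranks.sq_of_center h5'
  have e1 : (QuotientGroup.mk (A ^ 6) : Co1) = QuotientGroup.mk A := by
    rw [QuotientGroup.mk_pow, pow_succ, h5, one_mul]
  have : Fact (Nat.Prime 5) := ⟨Nat.prime_five⟩
  have o6 : orderOf (A ^ 6) = 5 := by
    refine orderOf_eq_prime ?_ fun h6 => ?_
    · calc (A ^ 6) ^ 5 = ((A ^ 5) ^ 2) ^ 3 := by rw [← pow_mul, ← pow_mul, ← pow_mul]
        _ = 1 := by rw [h10, one_pow]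
    · rw [h6] at e1
      rw [hpi, ← e1] at ho
      rw [show (QuotientGroup.mk (1 : Co0) : Co1) = 1 from rfl, orderOf_one] at ho
      norm_num at ho
  rw [hpi, ← e1]
  exact (hm.pow 6).fr o6

/-- **The local structure of the elements of order 5 of `N`.** -/
theorem exists_dp {x : centralizer ({zz} : Set Gam)} (hx : orderOf x = 5)
    (hN : ((x : Gam) : Space.V ≃ₗ[ℚ] Space.V) ∈ Conc.N) : ∃ T : Subgroup Gam, DP Spor.HN 5 (x : Gam) T := by
  have := hG
  obtain ⟨e⟩ := MFiveHN.Closed.hnEight chart x hx (fr_eq hx hN)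
  have hv' : orderOf (x : Gam) = 5 := by rw [Subgroup.orderOf_coe, hx]
  have hs : IsSimpleGroup Spor.HN := Cfsg.Agent.S1701.result.1
  exact DP.of_split (Cfsg.Agent.H53.OddLift.commutator_eq_top_of_card Cfsg.Agent.S2056.card_HN (by norm_num))
    Nat.prime_five (H66.M23.Split.noStem_of_mult Cfsg.Agent.S2056.result (by norm_num)) hv' e

/-- **Two elements of order 5 of `N` are conjugate.** -/
theorem exists_conj {x y : centralizer ({zz} : Set Gam)} (hx : orderOf x = 5) (hy : orderOf y = 5)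
    (hxN : ((x : Gam) : Space.V ≃ₗ[ℚ] Space.V) ∈ Conc.N) (hyN : ((y : Gam) : Space.V ≃ₗ[ℚ] Space.V) ∈ Conc.N) :
    ∃ c : centralizer ({zz} : Set Gam), c * x * c⁻¹ = y := by
  obtain ⟨s, hs⟩ := isConj_iff.1 (CoFive.Ranks.isConj_of_fr (MFive.orderOf_pi chart Nat.prime_five (by decide) hx)
    (MFive.orderOf_pi chart Nat.prime_five (by decide) hy) ((fr_eq hx hxN).trans (fr_eq hy hyN).symm))
  exact MFive.exists_conj_of_conj chart Nat.prime_five (by decide) (by rw [← hx, pow_orderOf_eq_one])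
    (by rw [← hy, pow_orderOf_eq_one]) hs

end Cfsg.Agent.H136.M23.BMon
end

-- part: H136/M23/BOrd
section
/-!
# Orders of the words (helper136): `W w ^ n = 1`

The vector `uB` of `MonsterX.BaseVec` is moved in steps of `K` applications of the word.
-/

set_option autoImplicit false
set_option maxRecDepth 100000
set_option Elab.async false

namespace Cfsg.Agent.H136.M23.BOrd

open Cfsg.Agent.Monster.VecEngine Cfsg.Agent.Monster.VecSpace Cfsg.Agent.MonsterX.Space Cfsg.Agent.MonsterX.Conc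
open Cfsg.Agent.MonsterX.ConcGrp Cfsg.Agent.H136.M23.BTr
open Cfsg.Agent.MonsterX.BaseVec (bits uB)

theorem stp {w : List ℕ} {x y : Pl} (h : check (w.map MonsterX.ProgTable.prog) x (([] : List ℕ).map MonsterX.ProgTable.prog) y = true) :
    W w (vecV x) = vecV y := by
  have h1 := W_eq_of_check h
  rw [W_nil] at h1
  exact h1

theorem eq_one {w : List ℕ} {n : ℕ} (hw : w.all inN = true) (h : (W w ^ n) (vecV uB) = vecV uB) : W w ^ n = 1 :=
  MonsterX.BaseVec.eq_one_C MonsterX.InstanceFinal.pack.hG MonsterX.InstanceFinal.pack.hR MonsterX.InstanceFinal.pack.hL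
    MonsterX.InstanceFinal.pack.lines (pow_mem (N_le_C (W_mem_N hw)) n) h

theorem step {w : List ℕ} {K n : ℕ} {x y : MonsterX.Space.V} (h0 : (W w ^ n) (vecV uB) = x) (h : W (pw K w) x = y) :
    (W w ^ (K + n)) (vecV uB) = y := by
  rw [pow_add, LinearEquiv.mul_apply, h0, ← W_pw, h]

noncomputable def u_s0 : Pl := .cons (bits [0, 192, 832, 2880, 8640, 26048, 62466, 62468, 62470, 62471, 62476, 62480, 196608]) (.cons (bits [64, 192, 1600, 2880, 14784, 26048, 62467, 62468, 62469, 62471, 62478, 62480]) (.cons (bits [0, 64, 192, 5056, 8640, 14784, 26048, 62469, 62472, 62476, 62480, 62528]) (.cons (bits [0, 64, 192, 62470, 62471, 62477, 62478, 62528, 65536]) (.cons (bits [384, 832, 1600, 2880, 5056, 8640, 14784, 26048, 65536]) (.sgn (bits []))))))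

theorem u_c0 : W (pw 5 u) (vecV u_s0) = vecV u_s0 := stp (Cfsg.Agent.Monster.VecFast.check_of (by decide +kernel))

theorem u_init : vecV uB = vecV u_s0 := MonsterX.InstData.vecV_congr (by decide +kernel)

theorem u_pow : W u ^ 5 = 1 := by
  apply eq_one (by decide +kernel)
  have h0 : (W u ^ 0) (vecV uB) = vecV u_s0 := by rw [pow_zero, u_init]; rfl
  have h1 := step h0 u_c0
  rw [← u_init] at h1
  exact h1

noncomputable def wA_s0 : Pl := .cons (bits [0, 192, 832, 2880, 8640, 26048, 62466, 62468, 62470, 62471, 62476, 62480, 196608]) (.cons (bits [64, 192, 1600, 2880, 14784, 26048, 62467, 62468, 62469, 62471, 62478, 62480]) (.cons (bits [0, 64, 192, 5056, 8640, 14784, 26048, 62469, 62472, 62476, 62480, 62528]) (.cons (bits [0, 64, 192, 62470, 62471, 62477, 62478, 62528, 65536]) (.cons (bits [384, 832, 1600, 2880, 5056, 8640, 14784, 26048, 65536]) (.sgn (bits []))))))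

noncomputable def wA_s1 : Pl := .cons (bits [4691, 7432, 16255, 29235, 29658, 31160, 62465, 62466, 62468, 62476, 62477, 62944, 233664]) (.cons (bits [4691, 7432, 16255, 27344, 29147, 29969, 31160, 62468, 62476, 62477, 62976, 63104, 63168, 233664]) (.cons (bits [4691, 7432, 27344, 29235, 29658, 29969, 31160, 31586, 62477, 62528, 62944, 63040, 63168, 233664]) (.cons (bits [4691, 7432, 16255, 27344, 29235, 29658, 62465, 62467, 62476, 62528, 63104, 102592, 233664]) (.cons (bits [13681, 29147, 29969, 31160, 31586, 102592, 233664]) (.sgn (bits [4691, 13681, 16255, 27344, 29147, 29658, 233664]))))))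

noncomputable def wA_s2 : Pl := .cons (bits [171, 1770, 6576, 6656, 7377, 7787, 62466, 62467, 62468, 62471, 62473, 62944, 235456]) (.cons (bits [171, 1770, 6576, 6656, 7377, 8259, 14199, 29295, 62467, 62468, 62483, 62784, 62880, 62944]) (.cons (bits [5214, 6576, 7377, 8259, 29295, 62467, 62471, 62481, 62528, 62784]) (.cons (bits [6576, 6656, 8259, 14199, 29295, 62473, 62483, 62528, 62944, 62976, 104384]) (.cons (bits [171, 1770, 5214, 7377, 7787, 17009, 104384]) (.sgn (bits [171, 6656, 8259, 14199]))))))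

noncomputable def wA_s3 : Pl := .cons (bits [19, 243, 851, 2938, 8676, 26089, 62466, 62468, 62471, 62476, 62656, 62976, 219136]) (.cons (bits [19, 107, 1648, 2938, 8676, 14800, 62468, 62471, 62560, 62624, 62912, 62976, 219136]) (.cons (bits [5083, 14800, 62476, 62528, 62624, 62720, 62976, 219136]) (.cons (bits [8676, 26089, 62471, 62528, 62656, 62880, 62912, 88064, 219136]) (.cons (bits [19, 107, 243, 415, 851, 1648, 2938, 5083, 14800, 219136]) (.sgn (bits [19, 107, 243, 8676, 26089, 88064, 219136]))))))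

noncomputable def wA_s4 : Pl := .cons (bits [4724, 7449, 16207, 29184, 29674, 31159, 62466, 62468, 62476, 62496, 62880, 62944, 248000]) (.cons (bits [4724, 27385, 29140, 29184, 30005, 62468, 62476, 62480, 62484, 62486, 62880]) (.cons (bits [4724, 16207, 27385, 29140, 29674, 30005, 31577, 62482, 62486, 62528, 62880, 62944]) (.cons (bits [4724, 27385, 29140, 29674, 31159, 62476, 62484, 62496, 62528, 62560, 116928]) (.cons (bits [7449, 13647, 16207, 29184, 30005, 31577, 116928]) (.sgn (bits [4724, 7449, 13647, 27385, 29184, 29674, 31159]))))))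

noncomputable def wA_s5 : Pl := .cons (bits [181, 1782, 6566, 6672, 7418, 7802, 62466, 62468, 62471, 62560, 62752, 62944, 249792]) (.cons (bits [1782, 8314, 14174, 29254, 62468, 62474, 62477, 62560, 62944, 63072, 249792]) (.cons (bits [181, 5230, 6672, 8314, 62471, 62474, 62528, 62560, 63008, 249792]) (.cons (bits [181, 7418, 8314, 14174, 62480, 62528, 62752, 62944, 63072, 118720, 249792]) (.cons (bits [1782, 5230, 6566, 6672, 7802, 17007, 29254, 118720, 249792]) (.sgn (bits [6566, 7418, 8314, 14174, 29254, 249792]))))))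

noncomputable def wA_s6 : Pl := .cons (bits [0, 192, 832, 2880, 8640, 26048, 62466, 62468, 62470, 62471, 62476, 62480, 196608]) (.cons (bits [64, 192, 1600, 2880, 14784, 26048, 62467, 62468, 62469, 62471, 62478, 62480, 196608]) (.cons (bits [0, 64, 192, 5056, 8640, 14784, 26048, 62469, 62472, 62476, 62480, 62528, 196608]) (.cons (bits [0, 64, 192, 62470, 62471, 62477, 62478, 62528, 65536, 196608]) (.cons (bits [384, 832, 1600, 2880, 5056, 8640, 14784, 26048, 196608]) (.sgn (bits [65536, 196608]))))))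

noncomputable def wA_s7 : Pl := .cons (bits [4691, 7432, 16255, 29235, 29658, 31160, 62465, 62466, 62468, 62476, 62477, 62944, 233664]) (.cons (bits [4691, 7432, 16255, 27344, 29147, 29969, 31160, 62468, 62476, 62477, 62976, 63104, 63168]) (.cons (bits [4691, 7432, 27344, 29235, 29658, 29969, 31160, 31586, 62477, 62528, 62944, 63040, 63168]) (.cons (bits [4691, 7432, 16255, 27344, 29235, 29658, 62465, 62467, 62476, 62528, 63104, 102592]) (.cons (bits [13681, 29147, 29969, 31160, 31586]) (.sgn (bits [4691, 13681, 16255, 27344, 29147, 29658, 102592]))))))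

noncomputable def wA_s8 : Pl := .cons (bits [171, 1770, 6576, 6656, 7377, 7787, 62466, 62467, 62468, 62471, 62473, 62944, 235456]) (.cons (bits [171, 1770, 6576, 6656, 7377, 8259, 14199, 29295, 62467, 62468, 62483, 62784, 62880, 62944, 235456]) (.cons (bits [5214, 6576, 7377, 8259, 29295, 62467, 62471, 62481, 62528, 62784, 235456]) (.cons (bits [6576, 6656, 8259, 14199, 29295, 62473, 62483, 62528, 62944, 62976, 104384, 235456]) (.cons (bits [171, 1770, 5214, 7377, 7787, 17009, 235456]) (.sgn (bits [171, 6656, 8259, 14199, 104384, 235456]))))))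

noncomputable def wA_s9 : Pl := .cons (bits [19, 243, 851, 2938, 8676, 26089, 62466, 62468, 62471, 62476, 62656, 62976, 219136]) (.cons (bits [19, 107, 1648, 2938, 8676, 14800, 62468, 62471, 62560, 62624, 62912, 62976]) (.cons (bits [5083, 14800, 62476, 62528, 62624, 62720, 62976]) (.cons (bits [8676, 26089, 62471, 62528, 62656, 62880, 62912, 88064]) (.cons (bits [19, 107, 243, 415, 851, 1648, 2938, 5083, 14800, 88064]) (.sgn (bits [19, 107, 243, 8676, 26089]))))))

noncomputable def wA_s10 : Pl := .cons (bits [4724, 7449, 16207, 29184, 29674, 31159, 62466, 62468, 62476, 62496, 62880, 62944, 248000]) (.cons (bits [4724, 27385, 29140, 29184, 30005, 62468, 62476, 62480, 62484, 62486, 62880, 248000]) (.cons (bits [4724, 16207, 27385, 29140, 29674, 30005, 31577, 62482, 62486, 62528, 62880, 62944, 248000]) (.cons (bits [4724, 27385, 29140, 29674, 31159, 62476, 62484, 62496, 62528, 62560, 116928, 248000]) (.cons (bits [7449, 13647, 16207, 29184, 30005, 31577, 248000])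 (.sgn (bits [4724, 7449, 13647, 27385, 29184, 29674, 31159, 116928, 248000]))))))

noncomputable def wA_s11 : Pl := .cons (bits [181, 1782, 6566, 6672, 7418, 7802, 62466, 62468, 62471, 62560, 62752, 62944, 249792]) (.cons (bits [1782, 8314, 14174, 29254, 62468, 62474, 62477, 62560, 62944, 63072]) (.cons (bits [181, 5230, 6672, 8314, 62471, 62474, 62528, 62560, 63008]) (.cons (bits [181, 7418, 8314, 14174, 62480, 62528, 62752, 62944, 63072, 118720]) (.cons (bits [1782, 5230, 6566, 6672, 7802, 17007, 29254]) (.sgn (bits [6566, 7418, 8314, 14174, 29254, 118720]))))))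

theorem wA_c0 : W (pw 5 wA) (vecV wA_s0) = vecV wA_s1 := stp (Cfsg.Agent.Monster.VecFast.check_of (by decide +kernel))

theorem wA_c1 : W (pw 5 wA) (vecV wA_s1) = vecV wA_s2 := stp (Cfsg.Agent.Monster.VecFast.check_of (by decide +kernel))

theorem wA_c2 : W (pw 5 wA) (vecV wA_s2) = vecV wA_s3 := stp (Cfsg.Agent.Monster.VecFast.check_of (by decide +kernel))

theorem wA_c3 : W (pw 5 wA) (vecV wA_s3) = vecV wA_s4 := stp (Cfsg.Agent.Monster.VecFast.check_of (by decide +kernel))

theorem wA_c4 : W (pw 5 wA) (vecV wA_s4) = vecV wA_s5 := stp (Cfsg.Agent.Monster.VecFast.check_of (by decide +kernel))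

theorem wA_c5 : W (pw 5 wA) (vecV wA_s5) = vecV wA_s6 := stp (Cfsg.Agent.Monster.VecFast.check_of (by decide +kernel))

theorem wA_c6 : W (pw 5 wA) (vecV wA_s6) = vecV wA_s7 := stp (Cfsg.Agent.Monster.VecFast.check_of (by decide +kernel))

theorem wA_c7 : W (pw 5 wA) (vecV wA_s7) = vecV wA_s8 := stp (Cfsg.Agent.Monster.VecFast.check_of (by decide +kernel))

theorem wA_c8 : W (pw 5 wA) (vecV wA_s8) = vecV wA_s9 := stp (Cfsg.Agent.Monster.VecFast.check_of (by decide +kernel))

theorem wA_c9 : W (pw 5 wA) (vecV wA_s9) = vecV wA_s10 := stp (Cfsg.Agent.Monster.VecFast.check_of (by decide +kernel))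

theorem wA_c10 : W (pw 5 wA) (vecV wA_s10) = vecV wA_s11 := stp (Cfsg.Agent.Monster.VecFast.check_of (by decide +kernel))

theorem wA_c11 : W (pw 5 wA) (vecV wA_s11) = vecV wA_s0 := stp (Cfsg.Agent.Monster.VecFast.check_of (by decide +kernel))

theorem wA_init : vecV uB = vecV wA_s0 := MonsterX.InstData.vecV_congr (by decide +kernel)

theorem wA_pow : W wA ^ 60 = 1 := by
  apply eq_one (by decide +kernel)
  have h0 : (W wA ^ 0) (vecV uB) = vecV wA_s0 := by rw [pow_zero, wA_init]; rfl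
  have h1 := step h0 wA_c0
  have h2 := step h1 wA_c1
  have h3 := step h2 wA_c2
  have h4 := step h3 wA_c3
  have h5 := step h4 wA_c4
  have h6 := step h5 wA_c5
  have h7 := step h6 wA_c6
  have h8 := step h7 wA_c7
  have h9 := step h8 wA_c8
  have h10 := step h9 wA_c9
  have h11 := step h10 wA_c10
  have h12 := step h11 wA_c11
  rw [← wA_init] at h12
  exact h12

noncomputable def wB_s0 : Pl := .cons (bits [0, 192, 832, 2880, 8640, 26048, 62466, 62468, 62470, 62471, 62476, 62480, 196608]) (.cons (bits [64, 192, 1600, 2880, 14784, 26048, 62467, 62468, 62469, 62471, 62478, 62480]) (.cons (bits [0, 64, 192, 5056, 8640, 14784, 26048, 62469, 62472, 62476, 62480, 62528]) (.cons (bits [0, 64, 192, 62470, 62471, 62477, 62478, 62528, 65536]) (.cons (bits [384, 832, 1600, 2880, 5056, 8640, 14784, 26048, 65536]) (.sgn (bits []))))))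

noncomputable def wB_s1 : Pl := .cons (bits [6503, 13449, 26131, 29363, 34916, 45086, 62498, 62532, 62534, 62540, 62550, 62882, 232354]) (.cons (bits [10009, 10355, 26131, 34916, 35326, 62532, 62540, 62914, 62946, 63042, 232354]) (.cons (bits [6503, 10355, 13449, 26131, 32638, 62534, 62540, 62550, 62850, 62914, 63042, 63074, 232354]) (.cons (bits [13449, 26131, 32638, 45086, 62498, 62532, 62540, 62548, 62550, 62882, 62914, 62946, 82690, 232354]) (.cons (bits [6503, 10009, 10355, 29363, 30008, 34916, 35326, 62498, 62532, 62534, 62540, 62548, 62550, 62850, 62914, 82690, 232354]) (.sgn (bits [13449, 26131, 29363, 30008, 32638, 34916, 35326, 45086, 62498, 62532, 62534, 62540, 62548, 62550, 62850, 62914, 232354]))))))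

noncomputable def wB_s2 : Pl := .cons (bits [15130, 15513, 26198, 26731, 38034, 39032, 62604, 62848, 62857, 62870, 62892, 63116, 254572]) (.cons (bits [5807, 21098, 26398, 26731, 38034, 39032, 62604, 62732, 62848, 62857, 62863, 62865, 62870, 62892, 254572]) (.cons (bits [26198, 38034, 38211, 62604, 62732, 62852, 62857, 62865, 62871, 254572]) (.cons (bits [5807, 15130, 26198, 26731, 38034, 62604, 62636, 62870, 62892, 63116, 121292, 254572]) (.cons (bits [15513, 21098, 26398, 37674, 38211, 39032, 62604, 62852, 62865, 62870, 254572]) (.sgn (bits [5807, 15130, 21098, 26198, 26731, 37674, 39032, 62604, 62852, 62865, 62870, 121292, 254572]))))))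

noncomputable def wB_s3 : Pl := .cons (bits [8150, 16629, 17023, 28656, 38504, 44175, 62592, 62594, 62614, 62628, 62980, 63108, 261540]) (.cons (bits [3372, 8150, 17023, 27725, 38504, 38759, 44175, 62613, 62614, 62628, 63012, 63076, 63108]) (.cons (bits [8150, 16629, 17023, 27725, 38953, 62592, 62594, 62602, 62613, 62614, 62628, 63012, 63172]) (.cons (bits [3372, 16629, 17023, 27725, 44175, 62594, 62602, 62614, 62980, 63012, 63044, 63076, 63108, 94436]) (.cons (bits [8150, 16550, 28656, 38504, 38759, 38953, 62594, 62602, 62613, 62614, 62628, 62980, 63012, 63044, 63076, 63172]) (.sgn (bits [3372, 16629, 38504, 44175, 62594, 62602, 62613, 62614, 62628, 62980, 63012, 63044, 63076, 63172, 94436]))))))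

noncomputable def wB_s4 : Pl := .cons (bits [5924, 8909, 15713, 23517, 35068, 41208, 63062, 63168, 63169, 63170, 63173, 63180, 252950]) (.cons (bits [8909, 23517, 33379, 35068, 42930, 45009, 63170, 63175, 63189, 63191, 252950]) (.cons (bits [15713, 23928, 35068, 45009, 62486, 62582, 63173, 63180, 63189, 252950]) (.cons (bits [33379, 45009, 62486, 62582, 62742, 63062, 63169, 63170, 63175, 63180, 63189, 63191, 122454, 252950]) (.cons (bits [5924, 8909, 15713, 23517, 23928, 29678, 35068, 41208, 42930, 62582, 62742, 63169, 63170, 63173, 63180, 63189, 63191, 252950]) (.sgn (bits [5924, 23517, 29678, 33379, 62582, 62742, 63169, 63170, 63173, 63180, 63189, 63191, 122454, 252950]))))))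

noncomputable def wB_s5 : Pl := .cons (bits [5566, 29853, 30105, 31356, 37852, 38180, 62466, 62468, 62472, 62476, 62752, 63040, 260032]) (.cons (bits [15360, 21421, 29853, 30105, 31356, 37852, 40249, 62468, 62470, 62472, 62688, 62784]) (.cons (bits [5194, 5566, 15360, 21421, 30105, 37852, 40249, 62470, 62472, 62476, 62478, 62528, 62688, 63040]) (.cons (bits [5194, 21421, 30105, 37852, 38180, 40249, 62483, 62528, 62688, 62752, 62784, 98368]) (.cons (bits [5566, 15360, 18423, 29853, 31356, 62470, 62472, 62483, 62688, 62752, 62784, 63040, 98368]) (.sgn (bits [5194, 18423, 29853, 37852, 38180, 40249, 62470, 62472, 62483, 62688, 62752, 62784, 63040]))))))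

noncomputable def wB_s6 : Pl := .cons (bits [12336, 15610, 16271, 17810, 19231, 19313, 62532, 62536, 62540, 62550, 62978, 63074, 216386]) (.cons (bits [60, 6415, 18484, 19231, 62532, 62536, 62540, 62562, 62658, 62882, 63074]) (.cons (bits [60, 6761, 12336, 15610, 18484, 19231, 19313, 62540, 62550, 62562, 62850, 62882, 62946, 63074]) (.cons (bits [15610, 16271, 18484, 19231, 19313, 62532, 62536, 62540, 62550, 62978, 63202, 96770]) (.cons (bits [60, 6415, 6761, 12336, 17810, 27382, 62532, 62540, 62550, 62850, 62882, 62978, 63074]) (.sgn (bits [6415, 15610, 16271, 17810, 18484, 19231, 62532, 62540, 62550, 62850, 62882, 62978, 63074, 96770]))))))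

noncomputable def wB_s7 : Pl := .cons (bits [2352, 5337, 11961, 27947, 33296, 34985, 62604, 62848, 62849, 62870, 62871, 63084, 221740]) (.cons (bits [2352, 5337, 11961, 12579, 13193, 27947, 33296, 34923, 62604, 62848, 62861, 62862, 62870, 62871, 63116]) (.cons (bits [5337, 13193, 27947, 33172, 62604, 62852, 62861, 62862, 62865, 62871, 63084, 63116]) (.cons (bits [2352, 5337, 13193, 27947, 33172, 34923, 34985, 62604, 62849, 62858, 62861, 62865, 62870, 110860]) (.cons (bits [11961, 12579, 33296, 40581, 62604, 62849, 62852, 62858, 62861, 62865, 62870, 62871, 63084, 63116, 110860]) (.sgn (bits [2352, 5337, 11961, 12579, 13193, 33172, 34923, 34985, 40581, 62604, 62849, 62852, 62858, 62861, 62865, 62870, 62871, 63084, 63116]))))))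

noncomputable def wB_s8 : Pl := .cons (bits [18616, 19864, 29176, 30859, 31728, 41033, 62592, 62594, 62601, 62602, 62614, 62615, 246948]) (.cons (bits [8272, 10081, 19864, 31728, 39004, 41033, 62601, 62612, 62614, 62628, 62948]) (.cons (bits [17896, 18616, 19864, 29176, 30859, 31728, 39004, 41033, 62592, 62594, 62601, 62612, 62613, 62614, 62615, 63172]) (.cons (bits [18616, 30859, 31728, 41033, 62594, 62595, 62602, 62612, 62613, 62614, 62628, 62948, 86180]) (.cons (bits [8272, 10081, 17896, 19864, 29176, 37339, 39004, 62594, 62595, 62612, 62613, 62614, 62615, 62948, 63172, 86180]) (.sgn (bits [10081, 18616, 31728, 62594, 62595, 62612, 62613, 62614, 62615, 62948, 63172]))))))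

noncomputable def wB_s9 : Pl := .cons (bits [2731, 14800, 15633, 26250, 39491, 42718, 62582, 62806, 62998, 63168, 63170, 63180, 242902]) (.cons (bits [2419, 15633, 26250, 27504, 38506, 42718, 62646, 62806, 63030, 63062, 63170]) (.cons (bits [14800, 15633, 26858, 62486, 63030, 63062, 63175, 63180]) (.cons (bits [2731, 14800, 15633, 38506, 42718, 62486, 62582, 62806, 62934, 62998, 63170, 63180, 88086]) (.cons (bits [2419, 26250, 26858, 27504, 39491, 40528, 62934, 62998, 63062, 63170, 63180]) (.sgn (bits [2731, 27504, 38506, 42718, 62934, 62998, 63062, 63170, 63180, 88086]))))))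

noncomputable def wB_s10 : Pl := .cons (bits [6867, 10323, 13343, 14859, 16910, 25189, 62466, 62468, 62476, 62478, 62496, 62560, 251776]) (.cons (bits [16910, 21277, 23497, 33095, 62468, 62472, 62478, 62482, 62496, 63136]) (.cons (bits [10323, 14859, 16910, 21277, 23497, 23704, 25189, 33095, 62470, 62476, 62478, 62496, 62528, 62560]) (.cons (bits [10323, 13343, 16910, 21277, 25189, 33095, 62470, 62472, 62479, 62528, 63136, 100448]) (.cons (bits [6867, 14859, 18697, 23497, 23704, 62470, 62478, 62479, 62560, 63136, 100448]) (.sgn (bits [6867, 13343, 16910, 25189, 33095, 62470, 62478, 62479, 62560, 63136]))))))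

noncomputable def wB_s11 : Pl := .cons (bits [133, 5169, 5782, 27286, 30063, 31266, 62532, 62537, 62540, 62542, 62550, 62946, 248578]) (.cons (bits [133, 5782, 29876, 30063, 32275, 37721, 62532, 62535, 62537, 62540, 62542, 62722, 62946, 63074, 248578]) (.cons (bits [133, 577, 27286, 37721, 62537, 62540, 62550, 62722, 62850, 62882, 62946, 248578]) (.cons (bits [577, 27286, 29876, 30063, 37721, 62532, 62535, 62540, 62542, 62550, 62722, 62882, 63010, 63074, 87138, 248578]) (.cons (bits [133, 5169, 5782, 6674, 31266, 32275, 62532, 62535, 62540, 62550, 62722, 62850, 62882, 62946, 63010, 87138, 248578]) (.sgn (bits [577, 5782, 6674, 27286, 29876, 30063, 31266, 32275, 37721, 62532, 62535, 62540, 62550, 62722, 62850, 62882, 62946, 63010, 248578]))))))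

noncomputable def wB_s12 : Pl := .cons (bits [1905, 3369, 5745, 16807, 19142, 23834, 62604, 62848, 62864, 62865, 62870, 62956, 223756]) (.cons (bits [1905, 5745, 15474, 18768, 19142, 19281, 23834, 62604, 62668, 62848, 62867, 62870, 62871]) (.cons (bits [1905, 3369, 5745, 15474, 18768, 19281, 30771, 62604, 62852, 62956, 63116]) (.cons (bits [3369, 5745, 15474, 18768, 23834, 30771, 62604, 62668, 62864, 62865, 62870, 62871, 63116, 63148, 75788]) (.cons (bits [1905, 6387, 16807, 19142, 19281, 62604, 62668, 62852, 62864, 62870, 62956, 63116, 63148]) (.sgn (bits [5745, 6387, 15474, 16807, 23834, 30771, 62604, 62668, 62852, 62864, 62870, 62956, 63116, 63148, 75788]))))))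

noncomputable def wB_s13 : Pl := .cons (bits [4161, 4656, 29302, 32206, 33359, 33793, 62500, 62592, 62594, 62609, 62613, 62614, 256708]) (.cons (bits [11960, 13964, 29302, 32206, 32566, 33359, 62602, 62609, 62614, 62884, 63204]) (.cons (bits [13964, 22367, 62592, 62594, 62602, 62614, 62628, 62884, 63172]) (.cons (bits [11960, 13964, 22367, 29302, 33793, 62500, 62594, 62599, 62609, 62613, 62614, 100132]) (.cons (bits [4161, 4656, 27701, 32206, 32566, 33359, 62500, 62594, 62602, 62614, 63172]) (.sgn (bits [4161, 11960, 13964, 22367, 29302, 32566, 33359, 33793, 62500, 62594, 62602, 62614, 63172, 100132]))))))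

noncomputable def wB_s14 : Pl := .cons (bits [4871, 6247, 15365, 15989, 19339, 19410, 63158, 63168, 63170, 63175, 63177, 63180, 208342]) (.cons (bits [6297, 19410, 24200, 30891, 62582, 63158, 63170, 63175, 63177, 63178, 63188]) (.cons (bits [2547, 15365, 19339, 62486, 62582, 63062, 63175, 63177, 63178, 63180, 63188]) (.cons (bits [2547, 15365, 15989, 19339, 19410, 30891, 62486, 62678, 63062, 63158, 63170, 63178, 63180, 71862]) (.cons (bits [4871, 6247, 6297, 16227, 24200, 62582, 63062, 63170, 63175, 63178, 63180, 71862]) (.sgn (bits [2547, 6247, 15989, 16227, 19339, 19410, 24200, 30891, 62582, 63062, 63170, 63175, 63178, 63180]))))))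

theorem wB_c0 : W (pw 4 wB) (vecV wB_s0) = vecV wB_s1 := stp (Cfsg.Agent.Monster.VecFast.check_of (by decide +kernel))

theorem wB_c1 : W (pw 4 wB) (vecV wB_s1) = vecV wB_s2 := stp (Cfsg.Agent.Monster.VecFast.check_of (by decide +kernel))

theorem wB_c2 : W (pw 4 wB) (vecV wB_s2) = vecV wB_s3 := stp (Cfsg.Agent.Monster.VecFast.check_of (by decide +kernel))

theorem wB_c3 : W (pw 4 wB) (vecV wB_s3) = vecV wB_s4 := stp (Cfsg.Agent.Monster.VecFast.check_of (by decide +kernel))

theorem wB_c4 : W (pw 4 wB) (vecV wB_s4) = vecV wB_s5 := stp (Cfsg.Agent.Monster.VecFast.check_of (by decide +kernel))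

theorem wB_c5 : W (pw 4 wB) (vecV wB_s5) = vecV wB_s6 := stp (Cfsg.Agent.Monster.VecFast.check_of (by decide +kernel))

theorem wB_c6 : W (pw 4 wB) (vecV wB_s6) = vecV wB_s7 := stp (Cfsg.Agent.Monster.VecFast.check_of (by decide +kernel))

theorem wB_c7 : W (pw 4 wB) (vecV wB_s7) = vecV wB_s8 := stp (Cfsg.Agent.Monster.VecFast.check_of (by decide +kernel))

theorem wB_c8 : W (pw 4 wB) (vecV wB_s8) = vecV wB_s9 := stp (Cfsg.Agent.Monster.VecFast.check_of (by decide +kernel))

theorem wB_c9 : W (pw 4 wB) (vecV wB_s9) = vecV wB_s10 := stp (Cfsg.Agent.Monster.VecFast.check_of (by decide +kernel))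

theorem wB_c10 : W (pw 4 wB) (vecV wB_s10) = vecV wB_s11 := stp (Cfsg.Agent.Monster.VecFast.check_of (by decide +kernel))

theorem wB_c11 : W (pw 4 wB) (vecV wB_s11) = vecV wB_s12 := stp (Cfsg.Agent.Monster.VecFast.check_of (by decide +kernel))

theorem wB_c12 : W (pw 4 wB) (vecV wB_s12) = vecV wB_s13 := stp (Cfsg.Agent.Monster.VecFast.check_of (by decide +kernel))

theorem wB_c13 : W (pw 4 wB) (vecV wB_s13) = vecV wB_s14 := stp (Cfsg.Agent.Monster.VecFast.check_of (by decide +kernel))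

theorem wB_c14 : W (pw 4 wB) (vecV wB_s14) = vecV wB_s0 := stp (Cfsg.Agent.Monster.VecFast.check_of (by decide +kernel))

theorem wB_init : vecV uB = vecV wB_s0 := MonsterX.InstData.vecV_congr (by decide +kernel)

theorem wB_pow : W wB ^ 60 = 1 := by
  apply eq_one (by decide +kernel)
  have h0 : (W wB ^ 0) (vecV uB) = vecV wB_s0 := by rw [pow_zero, wB_init]; rfl
  have h1 := step h0 wB_c0
  have h2 := step h1 wB_c1
  have h3 := step h2 wB_c2
  have h4 := step h3 wB_c3
  have h5 := step h4 wB_c4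
  have h6 := step h5 wB_c5
  have h7 := step h6 wB_c6
  have h8 := step h7 wB_c7
  have h9 := step h8 wB_c8
  have h10 := step h9 wB_c9
  have h11 := step h10 wB_c10
  have h12 := step h11 wB_c11
  have h13 := step h12 wB_c12
  have h14 := step h13 wB_c13
  have h15 := step h14 wB_c14
  rw [← wB_init] at h15
  exact h15

noncomputable def wC_s0 : Pl := .cons (bits [0, 192, 832, 2880, 8640, 26048, 62466, 62468, 62470, 62471, 62476, 62480, 196608]) (.cons (bits [64, 192, 1600, 2880, 14784, 26048, 62467, 62468, 62469, 62471, 62478, 62480]) (.cons (bits [0, 64, 192, 5056, 8640, 14784, 26048, 62469, 62472, 62476, 62480, 62528]) (.cons (bits [0, 64, 192, 62470, 62471, 62477, 62478, 62528, 65536]) (.cons (bits [384, 832, 1600, 2880, 5056, 8640, 14784, 26048, 65536]) (.sgn (bits []))))))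

noncomputable def wC_s1 : Pl := .cons (bits [11295, 12870, 31457, 32924, 36028, 44590, 62826, 62835, 62838, 62923, 63051, 63211, 158731]) (.cons (bits [12870, 31328, 31457, 32924, 34406, 36028, 42647, 62818, 62826, 62838, 62923, 63019, 63115]) (.cons (bits [11523, 12870, 31328, 32924, 34406, 44590, 62818, 62829, 62830, 62835, 62838, 62923, 63115, 63211]) (.cons (bits [11523, 31328, 32924, 36028, 44590, 62824, 62830, 62923, 63051, 80459]) (.cons (bits [7819, 11295, 12870, 31457, 34406, 42647, 62818, 62824, 62923, 63211, 80459]) (.sgn (bits [11523, 36028, 62818, 62824, 62923, 63211]))))))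

noncomputable def wC_s2 : Pl := .cons (bits [53, 213, 869, 2893, 8660, 26111, 62466, 62468, 62476, 62656, 62688, 62976, 203936]) (.cons (bits [86, 213, 1650, 2893, 14819, 62466, 62476, 62478, 62560, 62624, 62656, 62688, 62976]) (.cons (bits [53, 86, 213, 1650, 5101, 8660, 62466, 62468, 62478, 62528, 62560, 62656, 62720, 62976]) (.cons (bits [53, 86, 213, 1650, 5101, 14819, 26111, 62466, 62468, 62476, 62560, 62624, 62688, 62720, 62880, 98272]) (.cons (bits [440, 869, 2893, 8660, 62466, 62468, 62476, 62478, 62528, 62560, 62624, 62656, 62720, 98272]) (.sgn (bits [1650, 5101, 14819, 26111, 62466, 62468, 62476, 62478, 62528, 62560, 62624, 62656, 62720]))))))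

noncomputable def wC_s3 : Pl := .cons (bits [11298, 12926, 31465, 32937, 35975, 44560, 62826, 62834, 62835, 62839, 62923, 63179, 134987]) (.cons (bits [11298, 12926, 31315, 34379, 42630, 44560, 62818, 62833, 62835, 62836, 62839]) (.cons (bits [11298, 11553, 12926, 31465, 34379, 35975, 42630, 62826, 62830, 62836, 62891]) (.cons (bits [11298, 11553, 31465, 42630, 62731, 62818, 62826, 62834, 62835, 62839, 63179, 83371]) (.cons (bits [7827, 12926, 31315, 32937, 34379, 35975, 44560, 62826, 62830, 62835, 63179]) (.sgn (bits [7827, 11298, 11553, 31315, 31465, 32937, 42630, 44560, 62826, 62830, 62835, 63179, 83371]))))))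

noncomputable def wC_s4 : Pl := .cons (bits [0, 192, 832, 2880, 8640, 26048, 62466, 62468, 62470, 62471, 62476, 62480, 196608]) (.cons (bits [0, 64, 192, 1600, 2880, 14784, 26048, 62467, 62468, 62469, 62471, 62478, 62480]) (.cons (bits [64, 192, 5056, 8640, 14784, 26048, 62469, 62472, 62476, 62480, 62528]) (.cons (bits [64, 192, 62470, 62471, 62477, 62478, 62528, 65536]) (.cons (bits [0, 384, 832, 1600, 2880, 5056, 8640, 14784, 26048, 65536]) (.sgn (bits [0]))))))

noncomputable def wC_s5 : Pl := .cons (bits [11295, 12870, 31457, 32924, 36028, 44590, 62826, 62835, 62838, 62923, 63051, 63211, 158731]) (.cons (bits [12870, 31328, 31457, 32924, 34406, 36028, 42647, 44590, 62818, 62826, 62838, 62923, 63019, 63115]) (.cons (bits [11523, 12870, 31328, 32924, 34406, 62818, 62829, 62830, 62835, 62838, 62923, 63115, 63211]) (.cons (bits [11523, 31328, 32924, 36028, 62824, 62830, 62923, 63051, 80459]) (.cons (bits [7819, 11295, 12870, 31457, 34406, 42647, 44590, 62818,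 62824, 62923, 63211, 80459]) (.sgn (bits [11523, 36028, 44590, 62818, 62824, 62923, 63211]))))))

noncomputable def wC_s6 : Pl := .cons (bits [53, 213, 869, 2893, 8660, 26111, 62466, 62468, 62476, 62656, 62688, 62976, 203936]) (.cons (bits [53, 86, 213, 1650, 2893, 14819, 62466, 62476, 62478, 62560, 62624, 62656, 62688, 62976]) (.cons (bits [86, 213, 1650, 5101, 8660, 62466, 62468, 62478, 62528, 62560, 62656, 62720, 62976]) (.cons (bits [86, 213, 1650, 5101, 14819, 26111, 62466, 62468, 62476, 62560, 62624, 62688, 62720, 62880, 98272]) (.cons (bits [53, 440, 869, 2893, 8660, 62466, 62468, 62476, 62478, 62528, 62560, 62624, 62656, 62720, 98272]) (.sgn (bits [53, 1650, 5101, 14819, 26111, 62466, 62468, 62476, 62478, 62528, 62560, 62624, 62656, 62720]))))))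

noncomputable def wC_s7 : Pl := .cons (bits [11298, 12926, 31465, 32937, 35975, 44560, 62826, 62834, 62835, 62839, 62923, 63179, 134987]) (.cons (bits [11298, 12926, 31315, 34379, 42630, 62818, 62833, 62835, 62836, 62839]) (.cons (bits [11298, 11553, 12926, 31465, 34379, 35975, 42630, 44560, 62826, 62830, 62836, 62891]) (.cons (bits [11298, 11553, 31465, 42630, 44560, 62731, 62818, 62826, 62834, 62835, 62839, 63179, 83371]) (.cons (bits [7827, 12926, 31315, 32937, 34379, 35975, 62826, 62830, 62835, 63179]) (.sgn (bits [7827, 11298, 11553, 31315, 31465, 32937, 42630, 62826, 62830, 62835, 63179, 83371]))))))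

theorem wC_c0 : W (pw 5 wC) (vecV wC_s0) = vecV wC_s1 := stp (Cfsg.Agent.Monster.VecFast.check_of (by decide +kernel))

theorem wC_c1 : W (pw 5 wC) (vecV wC_s1) = vecV wC_s2 := stp (Cfsg.Agent.Monster.VecFast.check_of (by decide +kernel))

theorem wC_c2 : W (pw 5 wC) (vecV wC_s2) = vecV wC_s3 := stp (Cfsg.Agent.Monster.VecFast.check_of (by decide +kernel))

theorem wC_c3 : W (pw 5 wC) (vecV wC_s3) = vecV wC_s4 := stp (Cfsg.Agent.Monster.VecFast.check_of (by decide +kernel))

theorem wC_c4 : W (pw 5 wC) (vecV wC_s4) = vecV wC_s5 := stp (Cfsg.Agent.Monster.VecFast.check_of (by decide +kernel))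

theorem wC_c5 : W (pw 5 wC) (vecV wC_s5) = vecV wC_s6 := stp (Cfsg.Agent.Monster.VecFast.check_of (by decide +kernel))

theorem wC_c6 : W (pw 5 wC) (vecV wC_s6) = vecV wC_s7 := stp (Cfsg.Agent.Monster.VecFast.check_of (by decide +kernel))

theorem wC_c7 : W (pw 5 wC) (vecV wC_s7) = vecV wC_s0 := stp (Cfsg.Agent.Monster.VecFast.check_of (by decide +kernel))

theorem wC_init : vecV uB = vecV wC_s0 := MonsterX.InstData.vecV_congr (by decide +kernel)

theorem wC_pow : W wC ^ 40 = 1 := by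
  apply eq_one (by decide +kernel)
  have h0 : (W wC ^ 0) (vecV uB) = vecV wC_s0 := by rw [pow_zero, wC_init]; rfl
  have h1 := step h0 wC_c0
  have h2 := step h1 wC_c1
  have h3 := step h2 wC_c2
  have h4 := step h3 wC_c3
  have h5 := step h4 wC_c4
  have h6 := step h5 wC_c5
  have h7 := step h6 wC_c6
  have h8 := step h7 wC_c7
  rw [← wC_init] at h8
  exact h8

noncomputable def wD_s0 : Pl := .cons (bits [0, 192, 832, 2880, 8640, 26048, 62466, 62468, 62470, 62471, 62476, 62480, 196608]) (.cons (bits [64, 192, 1600, 2880, 14784, 26048, 62467, 62468, 62469, 62471, 62478, 62480]) (.cons (bits [0, 64, 192, 5056, 8640, 14784, 26048, 62469, 62472, 62476, 62480, 62528]) (.cons (bits [0, 64, 192, 62470, 62471, 62477, 62478, 62528, 65536]) (.cons (bits [384, 832, 1600, 2880, 5056, 8640, 14784, 26048, 65536]) (.sgn (bits []))))))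

noncomputable def wD_s1 : Pl := .cons (bits [6431, 8181, 9926, 11355, 13749, 25169, 62484, 62485, 62496, 62592, 62880, 63200, 251552]) (.cons (bits [6362, 6431, 8942, 11355, 25169, 29176, 62467, 62484, 62486, 62496, 62752, 62880, 251552]) (.cons (bits [4208, 6362, 6431, 8942, 13749, 62470, 62486, 62592, 62880, 63136, 251552]) (.cons (bits [6431, 8942, 9926, 13749, 25169, 62484, 62752, 63040, 63136, 63200, 120480, 251552]) (.cons (bits [4208, 6362, 8181, 11355, 13985, 29176, 120480, 251552]) (.sgn (bits [6431, 8181, 9926, 13985, 25169, 251552]))))))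

noncomputable def wD_s2 : Pl := .cons (bits [15743, 21490, 32401, 33907, 37846, 45051, 62465, 62469, 62476, 62482, 62528, 62976, 203328]) (.cons (bits [20979, 21490, 26060, 26867, 32401, 33907, 37846, 62467, 62472, 62482, 62483, 62528, 62976, 203328]) (.cons (bits [15743, 20979, 26867, 32401, 33363, 33907, 62465, 62472, 62482, 62848, 63200, 203328]) (.cons (bits [15743, 20979, 26060, 26867, 32401, 33907, 37846, 45051, 62469, 62471, 62483, 62848, 62976, 72256, 203328]) (.cons (bits [21490, 21650, 33363, 203328]) (.sgn (bits [15743, 21490, 26060, 26867, 32401, 37846, 45051, 72256, 203328]))))))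

noncomputable def wD_s3 : Pl := .cons (bits [9044, 10079, 14838, 16202, 16345, 22130, 62466, 62477, 62486, 62592, 62688, 63136, 208896]) (.cons (bits [9044, 9966, 12384, 22130, 22368, 62467, 62470, 62474, 62477, 62688, 63136]) (.cons (bits [9966, 10079, 16345, 22130, 22368, 37492, 62466, 62468, 62469, 62470, 62688]) (.cons (bits [14838, 16345, 22130, 22368, 37492, 62468, 62474, 62477, 62484, 62486, 77824]) (.cons (bits [9044, 9966, 10079, 12384, 16202, 16649, 77824]) (.sgn (bits [14838, 37492]))))))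

noncomputable def wD_s4 : Pl := .cons (bits [6397, 15014, 26325, 31055, 39973, 40120, 62465, 62472, 62485, 62848, 63040, 63104, 229824]) (.cons (bits [15014, 15580, 18677, 31055, 39973, 45034, 62467, 62848, 62944, 63040, 63104, 63200, 229824]) (.cons (bits [5301, 18677, 26325, 31055, 45034, 62485, 62486, 62496, 63104, 63200, 229824]) (.cons (bits [6397, 18677, 26325, 31055, 39973, 62472, 62496, 62944, 62976, 63040, 98752, 229824]) (.cons (bits [5301, 15014, 15580, 26733, 40120, 45034, 98752, 229824]) (.sgn (bits [6397, 15580, 18677, 26733, 31055, 39973, 40120, 229824]))))))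

theorem wD_c0 : W (pw 8 wD) (vecV wD_s0) = vecV wD_s1 := stp (Cfsg.Agent.Monster.VecFast.check_of (by decide +kernel))

theorem wD_c1 : W (pw 8 wD) (vecV wD_s1) = vecV wD_s2 := stp (Cfsg.Agent.Monster.VecFast.check_of (by decide +kernel))

theorem wD_c2 : W (pw 8 wD) (vecV wD_s2) = vecV wD_s3 := stp (Cfsg.Agent.Monster.VecFast.check_of (by decide +kernel))

theorem wD_c3 : W (pw 8 wD) (vecV wD_s3) = vecV wD_s4 := stp (Cfsg.Agent.Monster.VecFast.check_of (by decide +kernel))

theorem wD_c4 : W (pw 8 wD) (vecV wD_s4) = vecV wD_s0 := stp (Cfsg.Agent.Monster.VecFast.check_of (by decide +kernel))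

theorem wD_init : vecV uB = vecV wD_s0 := MonsterX.InstData.vecV_congr (by decide +kernel)

theorem wD_pow : W wD ^ 40 = 1 := by
  apply eq_one (by decide +kernel)
  have h0 : (W wD ^ 0) (vecV uB) = vecV wD_s0 := by rw [pow_zero, wD_init]; rfl
  have h1 := step h0 wD_c0
  have h2 := step h1 wD_c1
  have h3 := step h2 wD_c2
  have h4 := step h3 wD_c3
  have h5 := step h4 wD_c4
  rw [← wD_init] at h5
  exact h5

noncomputable def wE_s0 : Pl := .cons (bits [0, 192, 832, 2880, 8640, 26048, 62466, 62468, 62470, 62471, 62476, 62480, 196608]) (.cons (bits [64, 192, 1600, 2880, 14784, 26048, 62467, 62468, 62469, 62471, 62478, 62480]) (.cons (bits [0, 64, 192, 5056, 8640, 14784, 26048, 62469, 62472, 62476, 62480, 62528]) (.cons (bits [0, 64, 192, 62470, 62471, 62477, 62478, 62528, 65536]) (.cons (bits [384, 832, 1600, 2880, 5056, 8640, 14784, 26048, 65536]) (.sgn (bits []))))))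

noncomputable def wE_s1 : Pl := .cons (bits [0, 192, 832, 2880, 8640, 26048, 62466, 62468, 62470, 62471, 62476, 62480, 196608]) (.cons (bits [64, 192, 832, 1600, 2880, 8640, 14784, 26048, 62467, 62468, 62469, 62471, 62478, 62480, 196608]) (.cons (bits [0, 192, 832, 1600, 5056, 14784, 26048, 62469, 62472, 62476, 62480, 62528, 196608]) (.cons (bits [0, 192, 832, 1600, 5056, 8640, 62470, 62471, 62477, 62478, 62528, 65536, 196608]) (.cons (bits [64, 384, 2880, 14784, 26048, 65536, 196608]) (.sgn (bits [64, 384, 832, 1600, 5056, 8640, 196608]))))))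

theorem wE_c0 : W (pw 10 wE) (vecV wE_s0) = vecV wE_s1 := stp (Cfsg.Agent.Monster.VecFast.check_of (by decide +kernel))

theorem wE_c1 : W (pw 10 wE) (vecV wE_s1) = vecV wE_s0 := stp (Cfsg.Agent.Monster.VecFast.check_of (by decide +kernel))

theorem wE_init : vecV uB = vecV wE_s0 := MonsterX.InstData.vecV_congr (by decide +kernel)

theorem wE_pow : W wE ^ 20 = 1 := by
  apply eq_one (by decide +kernel)
  have h0 : (W wE ^ 0) (vecV uB) = vecV wE_s0 := by rw [pow_zero, wE_init]; rfl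
  have h1 := step h0 wE_c0
  have h2 := step h1 wE_c1
  rw [← wE_init] at h2
  exact h2

/-! ### Powers which are not trivial -/

theorem pow_ne {w : List ℕ} {n a l : ℕ} (h : W (pw n w) (vecV (MonsterX.BaseVec.oneP a)) = vecV (MonsterX.BaseVec.oneP l))
    (ha : sym (MonsterX.BaseVec.oneP a) = true) (hl : sym (MonsterX.BaseVec.oneP l) = true)
    (hU : MonsterX.ProgBase.U.testBit a = true) (hne : a ≠ l) : W w ^ n ≠ 1 := by
  intro h1
  rw [W_pw, h1] at h
  have h2 : vecV (MonsterX.BaseVec.oneP a) = vecV (MonsterX.BaseVec.oneP l) := h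
  have h3 := congrArg (fun x : MonsterX.Space.V => (x : Lane MonsterX.ProgBase.U → ℚ) ⟨a, hU⟩) h2
  have h4 := (MonsterX.BaseVec.one_apply ha ⟨a, hU⟩).symm.trans (h3.trans (MonsterX.BaseVec.one_apply hl ⟨a, hU⟩))
  rw [if_pos rfl, if_neg hne] at h4
  exact one_ne_zero h4

theorem wA_ne : W wA ^ 12 ≠ 1 :=
  pow_ne (a := 0) (l := 30502) (stp (Cfsg.Agent.Monster.VecFast.check_of (by decide +kernel))) (by decide +kernel) (by decide +kernel) (by decide +kernel) (by norm_num)

theorem wB_ne : W wB ^ 12 ≠ 1 :=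
  pow_ne (a := 1) (l := 38466) (stp (Cfsg.Agent.Monster.VecFast.check_of (by decide +kernel))) (by decide +kernel) (by decide +kernel) (by decide +kernel) (by norm_num)

theorem wC_ne : W wC ^ 8 ≠ 1 :=
  pow_ne (a := 0) (l := 13698) (stp (Cfsg.Agent.Monster.VecFast.check_of (by decide +kernel))) (by decide +kernel) (by decide +kernel) (by decide +kernel) (by norm_num)

theorem wD_ne : W wD ^ 8 ≠ 1 :=
  pow_ne (a := 0) (l := 13749) (stp (Cfsg.Agent.Monster.VecFast.check_of (by decide +kernel))) (by decide +kernel) (by decide +kernel) (by decide +kernel) (by norm_num)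

theorem wE_ne : W wE ^ 4 ≠ 1 :=
  pow_ne (a := 128) (l := 11839) (stp (Cfsg.Agent.Monster.VecFast.check_of (by decide +kernel))) (by decide +kernel) (by decide +kernel) (by decide +kernel) (by norm_num)

end Cfsg.Agent.H136.M23.BOrd
end

-- part: H136/M23/BWords
section
/-!
# The values of the character of degree `196883` at the elements `v y`, `y` a {2,3}-element (helper136)

(b1) of (M,23), S4929: `v = W [37, 37]` of the class 5A, `C(v) = ⟨v⟩ × T`, `T ≅ HN`.
-/

set_option autoImplicit false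
set_option maxRecDepth 100000

namespace Cfsg.Agent.H136.M23.BWords

open Cfsg Cfsg.Agent.H241.Mon Cfsg.Agent.MonsterX.MainBasic
open Cfsg.Agent.MonsterX Cfsg.Agent.MonsterX.InstData Cfsg.Agent.MonsterU
open Subgroup (centralizer zpowers mem_centralizer_singleton_iff)
open Cfsg.Agent.MonsterX.Conc Cfsg.Agent.MonsterX.ConcGrp
open Cfsg.Agent.H66.M23.Loc Cfsg.Agent.H136.M23.BTr Cfsg.Agent.H136.M23.BMon
open Cfsg.Agent.H875.M23.TraceChar (chi chi_eq chi_irr chi_one chi_rat)
open Cfsg.Agent.Characters.Core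

/-- the element of `C(z)` given by a word in `N` -/
noncomputable def gN (w : List ℕ) (h : w.all inN = true) : centralizer ({zz} : Set Gam) :=
  ⟨⟨W w, C_le_G (N_le_C (W_mem_N h))⟩, mem_centralizer_singleton_iff.2
    (KDone.K.z_comm_K _ (Subgroup.mem_subgroupOf.2 (N_le_C (W_mem_N h))))⟩

theorem gN_mem {w : List ℕ} (h : w.all inN = true) (n : ℕ) :
    (((gN w h ^ n : centralizer ({zz} : Set Gam)) : Gam) : Space.V ≃ₗ[ℚ] Space.V) ∈ Conc.N := by
  rw [Subgroup.coe_pow, Subgroup.coe_pow]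
  exact pow_mem (W_mem_N h) n

theorem coe_gN_pow {w : List ℕ} (h : w.all inN = true) (n : ℕ) :
    (((gN w h : Gam) ^ n : Gam) : Space.V ≃ₗ[ℚ] Space.V) = W (pw n w) := by
  rw [Subgroup.coe_pow, W_pw]
  rfl

theorem chi_gN {w : List ℕ} (h : w.all inN = true) {n : ℕ} {a b : ℕ}
    (ht : LinearMap.trace ℚ Space.V (W (pw n w) : Space.V →ₗ[ℚ] Space.V) = (a : ℚ) - (b : ℕ)) :
    chi ((gN w h : Gam) ^ n) = (((a : ℤ) - b - 1 : ℤ) : ℂ) := by
  rw [chi_eq, coe_gN_pow, ht]
  push_cast
  ring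

/-- the character is rational -/
theorem chi_pow {g : Gam} {j : ℕ} (hj : Nat.Coprime j (orderOf g)) : chi (g ^ j) = chi g := by
  obtain ⟨m, h1, h2⟩ := Cfsg.Agent.H689.exists_coprime_lift (m := j) (a := orderOf g) (N := Nat.card Gam)
    Nat.card_pos.ne' (orderOf_dvd_natCard g) hj
  have h3 := (Cfsg.Agent.Characters.GaloisBasic.exists_rat_iff (isIrr_isCharacter chi_irr) g).1 (chi_rat g) m h1
  rwa [pow_eq_pow_iff_modEq.2 h2] at h3

theorem chi_conj (c g : Gam) : chi (c * g * c⁻¹) = chi g := by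
  rw [chi_eq, chi_eq]
  have h := LinearMap.trace_conj' (((g : Gam) : Space.V ≃ₗ[ℚ] Space.V) : Space.V →ₗ[ℚ] Space.V)
    ((c : Gam) : Space.V ≃ₗ[ℚ] Space.V)
  have e : LinearMap.trace ℚ Space.V (((c * g * c⁻¹ : Gam) : Space.V ≃ₗ[ℚ] Space.V) : Space.V →ₗ[ℚ] Space.V) =
      LinearMap.trace ℚ Space.V (((g : Gam) : Space.V ≃ₗ[ℚ] Space.V) : Space.V →ₗ[ℚ] Space.V) := h
  rw [e]

/-- An element of `C(v)` of order prime to `p` is in `T`. -/
theorem DP.mem_of_pow {G S : Type} [Group G] [Group S] {p : ℕ} {v : G} {T : Subgroup G}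
    (h : DP S p v T) {y : G} (hy : Commute v y) {m : ℕ} (hm : Nat.Coprime m p) (h1 : y ^ m = 1) : y ∈ T := by
  obtain ⟨i, t, ht, rfl⟩ := h.split y (mem_centralizer_singleton_iff.2 hy.symm.eq)
  have hvt : Commute v t := (mem_centralizer_singleton_iff.1 (h.le ht)).symm
  rw [(hvt.pow_left i).mul_pow, ← pow_mul] at h1
  have h2 : v ^ (i * m) ∈ T := by
    rw [eq_inv_of_mul_eq_one_left h1]
    exact T.inv_mem (T.pow_mem ht m)
  have h3 : v ^ (i * m) = 1 := by
    have h4 : v ^ (i * m) ∈ zpowers v ⊓ T := ⟨Subgroup.pow_mem _ (Subgroup.mem_zpowers v) _, h2⟩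
    rw [h.disj.eq_bot, Subgroup.mem_bot] at h4
    exact h4
  have h5 : p ∣ i * m := by rw [← h.ord]; exact orderOf_dvd_of_pow_eq_one h3
  have h6 : p ∣ i := Nat.Coprime.dvd_of_dvd_mul_right hm.symm h5
  have h7 : v ^ i = 1 := by
    obtain ⟨k, rfl⟩ := h6
    rw [pow_mul, ← h.ord, pow_orderOf_eq_one, one_pow]
  rw [h7, one_mul]
  exact ht

/-- **Words of `N` in `⟨v⟩ × T`.** -/
theorem core {x : centralizer ({zz} : Set Gam)} (hx : orderOf x = 5)
    (hxN : ((x : Gam) : Space.V ≃ₗ[ℚ] Space.V) ∈ Conc.N) {T : Subgroup Gam} (hT : DP Spor.HN 5 (x : Gam) T)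
    {w : List ℕ} (hw : w.all inN = true) {m : ℕ} (hm : Nat.Coprime 5 m)
    (h1 : (gN w hw : Gam) ^ (5 * m) = 1) (h5 : (gN w hw : Gam) ^ m ≠ 1) :
    ∃ y ∈ T, y ^ m = 1 ∧ ∀ k : ℕ, Nat.Coprime 5 k → chi ((x : Gam) * y ^ k) = chi ((gN w hw : Gam) ^ k) := by
  obtain ⟨a, ha5, ham⟩ := Nat.chineseRemainder hm 1 0
  obtain ⟨b, hb5, hbm⟩ := Nat.chineseRemainder hm 0 1
  have : Fact (Nat.Prime 5) := ⟨Nat.prime_five⟩
  have hg1 : gN w hw ^ (5 * m) = 1 := Subtype.ext (by rw [Subgroup.coe_pow, h1]; rfl)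
  have hgm : gN w hw ^ m ≠ 1 := fun h => h5 (by rw [← Subgroup.coe_pow, h]; rfl)
  obtain ⟨a', rfl⟩ : m ∣ a := (Nat.modEq_zero_iff_dvd).1 ham
  obtain ⟨b', rfl⟩ : 5 ∣ b := (Nat.modEq_zero_iff_dvd).1 hb5
  -- the 5-part
  have ox : orderOf (gN w hw ^ (m * a')) = 5 := by
    refine orderOf_eq_prime ?_ fun h => ?_
    · rw [← pow_mul, show m * a' * 5 = 5 * m * a' by ring, pow_mul, hg1, one_pow]
    · apply hgm
      have h2 : gN w hw ^ (m * (m * a')) = gN w hw ^ m := by
        rw [← orderOf_dvd_iff_pow_eq_one] at hg1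
        rw [pow_eq_pow_iff_modEq]
        refine Nat.ModEq.of_dvd hg1 ?_
        have h3 : m * (m * a') ≡ m * 1 [MOD m * 5] := Nat.ModEq.mul_left' m ha5
        rwa [mul_one, mul_comm m 5] at h3
      rw [← h2, mul_comm, pow_mul, h, one_pow]
  obtain ⟨c, hc⟩ := exists_conj ox hx (gN_mem hw _) hxN
  set g : Gam := (gN w hw : Gam) with hg
  have hc' : (c : Gam) * g ^ (m * a') * (c : Gam)⁻¹ = (x : Gam) := by
    rw [← hc]
    rfl
  have hym : ((c : Gam) * g ^ (5 * b') * (c : Gam)⁻¹) ^ m = 1 := by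
    rw [conj_pow, ← pow_mul, show 5 * b' * m = 5 * m * b' by ring, pow_mul, h1, one_pow, mul_one, mul_inv_cancel]
  refine ⟨(c : Gam) * g ^ (5 * b') * (c : Gam)⁻¹, ?_, hym, fun k hk => ?_⟩
  · refine DP.mem_of_pow hT ?_ hm.symm hym
    rw [← hc']
    have h2 : Commute (g ^ (m * a')) (g ^ (5 * b')) := (Commute.refl g).pow_pow _ _
    show (c : Gam) * g ^ (m * a') * (c : Gam)⁻¹ * ((c : Gam) * g ^ (5 * b') * (c : Gam)⁻¹) =
      (c : Gam) * g ^ (5 * b') * (c : Gam)⁻¹ * ((c : Gam) * g ^ (m * a') * (c : Gam)⁻¹)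
    have h3 := h2.eq
    calc _ = (c : Gam) * (g ^ (m * a') * g ^ (5 * b')) * (c : Gam)⁻¹ := by group
      _ = (c : Gam) * (g ^ (5 * b') * g ^ (m * a')) * (c : Gam)⁻¹ := by rw [h3]
      _ = _ := by group
  · have e1 : (x : Gam) * ((c : Gam) * g ^ (5 * b') * (c : Gam)⁻¹) ^ k = (c : Gam) * g ^ (m * a' + 5 * b' * k) * (c : Gam)⁻¹ := by
      rw [← hc', conj_pow, ← pow_mul, pow_add]
      group
    rw [e1, chi_conj]
    -- `k j = 1 mod 5`, `j = 1 mod m`
    obtain ⟨i, hi⟩ := Nat.exists_mul_mod_eq_one_of_coprime hk.symm (by norm_num : 1 < 5)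
    obtain ⟨j, hj5, hjm⟩ := Nat.chineseRemainder hm i 1
    have e2 : g ^ (m * a' + 5 * b' * k) = (g ^ k) ^ j := by
      rw [← pow_mul, pow_eq_pow_iff_modEq]
      refine Nat.ModEq.of_dvd (orderOf_dvd_of_pow_eq_one h1) ?_
      refine (Nat.modEq_and_modEq_iff_modEq_mul hm).1 ⟨?_, ?_⟩
      · have h2 : m * a' + 5 * b' * k ≡ 1 + 0 [MOD 5] :=
          ha5.add ((Nat.modEq_zero_iff_dvd).2 ⟨b' * k, by ring⟩)
        have h3 : k * j ≡ k * i [MOD 5] := hj5.mul_left k
        have h4 : k * i ≡ 1 [MOD 5] := hi.2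
        exact h2.trans (h3.trans h4).symm
      · have h2 : m * a' + 5 * b' * k ≡ 0 + 1 * k [MOD m] := ham.add (hbm.mul_right k)
        have h3 : k * j ≡ k * 1 [MOD m] := hjm.mul_left k
        rw [zero_add, one_mul] at h2
        rw [mul_one] at h3
        exact h2.trans h3.symm
    rw [e2]
    refine chi_pow ?_
    have hj : Nat.Coprime j (5 * m) := by
      refine Nat.Coprime.mul_right ?_ ?_
      · have h2 : k * j ≡ 1 [MOD 5] := (hj5.mul_left k).trans hi.2
        have h3 : Nat.Coprime (k * j) 5 := by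
          rw [Nat.coprime_iff_gcd_eq_one, h2.gcd_eq]
          norm_num
        exact h3.coprime_mul_left
      · rw [Nat.coprime_iff_gcd_eq_one, hjm.gcd_eq]
        simp
    refine hj.coprime_dvd_right (orderOf_dvd_of_pow_eq_one ?_)
    rw [← pow_mul, mul_comm, pow_mul, h1, one_pow]

/-! ### The element `v` -/

theorem u_all : u.all inN = true := by decide

/-- the element `v = W [37, 37]` -/
noncomputable def xu : centralizer ({zz} : Set Gam) := gN u u_all

theorem gN_pow_eq_one {w : List ℕ} (h : w.all inN = true) {n : ℕ} (h1 : W w ^ n = 1) : (gN w h : Gam) ^ n = 1 := by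
  apply Subtype.ext
  rw [coe_gN_pow, W_pw, h1]
  rfl

theorem chi_xu : chi (xu : Gam) = 133 := by
  have h := chi_gN u_all u_t1
  rw [pow_one] at h
  refine h.trans ?_
  norm_num

theorem orderOf_xu : orderOf xu = 5 := by
  have : Fact (Nat.Prime 5) := ⟨Nat.prime_five⟩
  refine orderOf_eq_prime (Subtype.ext ?_) fun h => ?_
  · rw [Subgroup.coe_pow]
    exact gN_pow_eq_one u_all BOrd.u_pow
  · have h1 := chi_xu
    rw [h, Subgroup.coe_one, chi_one] at h1
    norm_num at h1

theorem xu_mem : ((xu : Gam) : Space.V ≃ₗ[ℚ] Space.V) ∈ Conc.N := W_mem_N u_all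

theorem exists_dp_xu : ∃ T : Subgroup Gam, DP Spor.HN 5 (xu : Gam) T := exists_dp orderOf_xu xu_mem

theorem xu_rat (n : ℕ) (hn : n % 5 ≠ 0) : ∃ c : Gam, c * (xu : Gam) * c⁻¹ = (xu : Gam) ^ n := by
  have o : orderOf (xu ^ n) = 5 := by
    have h1 : Nat.Coprime (orderOf xu) n := by
      rw [orderOf_xu, Nat.Prime.coprime_iff_not_dvd Nat.prime_five]
      exact fun h => hn (Nat.mod_eq_zero_of_dvd h)
    rw [h1.orderOf_pow, orderOf_xu]
  obtain ⟨c, hc⟩ := exists_conj orderOf_xu o xu_mem (gN_mem u_all n)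
  exact ⟨c, congrArg Subtype.val hc⟩

/-- order of an element by the values of the character -/
theorem order_of_vals {v y : Gam} {m : ℕ} (hm : 0 < m) (h1 : y ^ m = 1)
    (h : ∀ p : ℕ, p.Prime → p ∣ m → chi (v * y ^ (m / p)) ≠ chi v) : orderOf y = m := by
  refine orderOf_eq_of_pow_and_pow_div_prime hm h1 fun p hp hpm h2 => h p hp hpm ?_
  rw [h2, mul_one]

/-- **The values at the {2,3}-elements of `T`.** -/
structure Vals (v : Gam) (T : Subgroup Gam) : Prop where
  /-- 12B, 6B, 4A, 3A, 2B -/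
  b12 : ∃ y ∈ T, orderOf y = 12 ∧ chi (v * y) = -1 ∧ chi (v * y ^ 2) = -1 ∧ chi (v * y ^ 3) = 5 ∧
    chi (v * y ^ 4) = 7 ∧ chi (v * y ^ 6) = 5
  /-- 12A, 6A, 4B, 3A, 2A -/
  a12 : ∃ y ∈ T, orderOf y = 12 ∧ chi (v * y) = 1 ∧ chi (v * y ^ 2) = 3 ∧ chi (v * y ^ 3) = 1 ∧
    chi (v * y ^ 4) = 7 ∧ chi (v * y ^ 6) = 21
  /-- 8A, 4B, 2A -/
  a8 : ∃ y ∈ T, orderOf y = 8 ∧ chi (v * y) = -1 ∧ chi (v * y ^ 2) = 1 ∧ chi (v * y ^ 4) = 21
  /-- 8B, 4A, 2B -/
  b8 : ∃ y ∈ T, orderOf y = 8 ∧ chi (v * y) = 1 ∧ chi (v * y ^ 2) = 5 ∧ chi (v * y ^ 4) = 5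
  /-- 4C, 2B -/
  c4 : ∃ y ∈ T, orderOf y = 4 ∧ chi (v * y) = -3 ∧ chi (v * y ^ 2) = 5

theorem ne_of {w : List ℕ} (h : w.all inN = true) {n : ℕ} (h1 : W w ^ n ≠ 1) : (gN w h : Gam) ^ n ≠ 1 := by
  intro h2
  apply h1
  have h3 := congrArg (fun g : Gam => (g : Space.V ≃ₗ[ℚ] Space.V)) h2
  exact h3

theorem prime_dvd_two_pow {p : ℕ} (hp : p.Prime) {k : ℕ} (h : p ∣ 2 ^ k) : p = 2 :=
  (Nat.prime_dvd_prime_iff_eq hp Nat.prime_two).1 (hp.dvd_of_dvd_pow h)

/-- **The values.** -/
theorem vals {T : Subgroup Gam} (hT : DP Spor.HN 5 (xu : Gam) T) : Vals (xu : Gam) T where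
  b12 := by
    have hw : wA.all inN = true := by decide
    obtain ⟨y, hyT, hy, hv⟩ := core orderOf_xu xu_mem hT hw (m := 12) (by norm_num)
      (gN_pow_eq_one hw BOrd.wA_pow) (ne_of hw BOrd.wA_ne)
    have v1 : chi ((xu : Gam) * y) = -1 := by
      have h := (hv 1 (by norm_num)).trans (chi_gN hw wA_t1)
      rw [pow_one] at h
      exact h.trans (by norm_num)
    have v2 : chi ((xu : Gam) * y ^ 2) = -1 := ((hv 2 (by norm_num)).trans (chi_gN hw wA_t2)).trans (by norm_num)
    have v3 : chi ((xu : Gam) * y ^ 3) = 5 := ((hv 3 (by norm_num)).trans (chi_gN hw wA_t3)).trans (by norm_num)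
    have v4 : chi ((xu : Gam) * y ^ 4) = 7 := ((hv 4 (by norm_num)).trans (chi_gN hw wA_t4)).trans (by norm_num)
    have v6 : chi ((xu : Gam) * y ^ 6) = 5 := ((hv 6 (by norm_num)).trans (chi_gN hw wA_t6)).trans (by norm_num)
    refine ⟨y, hyT, order_of_vals (v := (xu : Gam)) (by norm_num) hy fun p hp hpm => ?_, v1, v2, v3, v4, v6⟩
    rw [chi_xu]
    have h1 : p ∣ 2 ^ 2 * 3 := hpm
    rcases (Nat.Prime.dvd_mul hp).1 h1 with h2 | h2
    · rw [prime_dvd_two_pow hp h2]
      show chi ((xu : Gam) * y ^ 6) ≠ 133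
      rw [v6]; norm_num
    · rw [(Nat.prime_dvd_prime_iff_eq hp Nat.prime_three).1 h2]
      show chi ((xu : Gam) * y ^ 4) ≠ 133
      rw [v4]; norm_num
  a12 := by
    have hw : wB.all inN = true := by decide
    obtain ⟨y, hyT, hy, hv⟩ := core orderOf_xu xu_mem hT hw (m := 12) (by norm_num)
      (gN_pow_eq_one hw BOrd.wB_pow) (ne_of hw BOrd.wB_ne)
    have v1 : chi ((xu : Gam) * y) = 1 := by
      have h := (hv 1 (by norm_num)).trans (chi_gN hw wB_t1)
      rw [pow_one] at h
      exact h.trans (by norm_num)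
    have v2 : chi ((xu : Gam) * y ^ 2) = 3 := ((hv 2 (by norm_num)).trans (chi_gN hw wB_t2)).trans (by norm_num)
    have v3 : chi ((xu : Gam) * y ^ 3) = 1 := ((hv 3 (by norm_num)).trans (chi_gN hw wB_t3)).trans (by norm_num)
    have v4 : chi ((xu : Gam) * y ^ 4) = 7 := ((hv 4 (by norm_num)).trans (chi_gN hw wB_t4)).trans (by norm_num)
    have v6 : chi ((xu : Gam) * y ^ 6) = 21 := ((hv 6 (by norm_num)).trans (chi_gN hw wB_t6)).trans (by norm_num)
    refine ⟨y, hyT, order_of_vals (v := (xu : Gam)) (by norm_num) hy fun p hp hpm => ?_, v1, v2, v3, v4, v6⟩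
    rw [chi_xu]
    have h1 : p ∣ 2 ^ 2 * 3 := hpm
    rcases (Nat.Prime.dvd_mul hp).1 h1 with h2 | h2
    · rw [prime_dvd_two_pow hp h2]
      show chi ((xu : Gam) * y ^ 6) ≠ 133
      rw [v6]; norm_num
    · rw [(Nat.prime_dvd_prime_iff_eq hp Nat.prime_three).1 h2]
      show chi ((xu : Gam) * y ^ 4) ≠ 133
      rw [v4]; norm_num
  a8 := by
    have hw : wC.all inN = true := by decide
    obtain ⟨y, hyT, hy, hv⟩ := core orderOf_xu xu_mem hT hw (m := 8) (by norm_num)
      (gN_pow_eq_one hw BOrd.wC_pow) (ne_of hw BOrd.wC_ne)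
    have v1 : chi ((xu : Gam) * y) = -1 := by
      have h := (hv 1 (by norm_num)).trans (chi_gN hw wC_t1)
      rw [pow_one] at h
      exact h.trans (by norm_num)
    have v2 : chi ((xu : Gam) * y ^ 2) = 1 := ((hv 2 (by norm_num)).trans (chi_gN hw wC_t2)).trans (by norm_num)
    have v4 : chi ((xu : Gam) * y ^ 4) = 21 := ((hv 4 (by norm_num)).trans (chi_gN hw wC_t4)).trans (by norm_num)
    refine ⟨y, hyT, order_of_vals (v := (xu : Gam)) (by norm_num) hy fun p hp hpm => ?_, v1, v2, v4⟩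
    rw [chi_xu]
    have h1 : p ∣ 2 ^ 3 := hpm
    rw [prime_dvd_two_pow hp h1]
    show chi ((xu : Gam) * y ^ 4) ≠ 133
    rw [v4]; norm_num
  b8 := by
    have hw : wD.all inN = true := by decide
    obtain ⟨y, hyT, hy, hv⟩ := core orderOf_xu xu_mem hT hw (m := 8) (by norm_num)
      (gN_pow_eq_one hw BOrd.wD_pow) (ne_of hw BOrd.wD_ne)
    have v1 : chi ((xu : Gam) * y) = 1 := by
      have h := (hv 1 (by norm_num)).trans (chi_gN hw wD_t1)
      rw [pow_one] at h
      exact h.trans (by norm_num)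
    have v2 : chi ((xu : Gam) * y ^ 2) = 5 := ((hv 2 (by norm_num)).trans (chi_gN hw wD_t2)).trans (by norm_num)
    have v4 : chi ((xu : Gam) * y ^ 4) = 5 := ((hv 4 (by norm_num)).trans (chi_gN hw wD_t4)).trans (by norm_num)
    refine ⟨y, hyT, order_of_vals (v := (xu : Gam)) (by norm_num) hy fun p hp hpm => ?_, v1, v2, v4⟩
    rw [chi_xu]
    have h1 : p ∣ 2 ^ 3 := hpm
    rw [prime_dvd_two_pow hp h1]
    show chi ((xu : Gam) * y ^ 4) ≠ 133
    rw [v4]; norm_num
  c4 := by
    have hw : wE.all inN = true := by decide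
    obtain ⟨y, hyT, hy, hv⟩ := core orderOf_xu xu_mem hT hw (m := 4) (by norm_num)
      (gN_pow_eq_one hw BOrd.wE_pow) (ne_of hw BOrd.wE_ne)
    have v1 : chi ((xu : Gam) * y) = -3 := by
      have h := (hv 1 (by norm_num)).trans (chi_gN hw wE_t1)
      rw [pow_one] at h
      exact h.trans (by norm_num)
    have v2 : chi ((xu : Gam) * y ^ 2) = 5 := ((hv 2 (by norm_num)).trans (chi_gN hw wE_t2)).trans (by norm_num)
    refine ⟨y, hyT, order_of_vals (v := (xu : Gam)) (by norm_num) hy fun p hp hpm => ?_, v1, v2⟩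
    rw [chi_xu]
    have h1 : p ∣ 2 ^ 2 := hpm
    rw [prime_dvd_two_pow hp h1]
    show chi ((xu : Gam) * y ^ 2) ≠ 133
    rw [v2]; norm_num

end Cfsg.Agent.H136.M23.BWords
end

-- part: H136/M23/BZ
section
/-!
# The involution `z` in `C(v) = ⟨v⟩ × HN` and the words of [BETA] (helper136)

`card_cz` : `|C_T(z)| = 3686400`; `words` : `H616.M23.Words` for `v = W [37, 37]`.
-/

set_option autoImplicit false
set_option maxRecDepth 100000

namespace Cfsg.Agent.H136.M23.BZ

open Cfsg Cfsg.Agent.H241.Mon Cfsg.Agent.MonsterX.MainBasic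
open Cfsg.Agent.MonsterX Cfsg.Agent.MonsterX.InstData Cfsg.Agent.MonsterU
open Subgroup (centralizer zpowers mem_centralizer_singleton_iff)
open Cfsg.Agent.MonsterX.Conc Cfsg.Agent.MonsterX.ConcGrp
open Cfsg.Agent.H66.M23.Loc Cfsg.Agent.H136.M23.BTr Cfsg.Agent.H136.M23.BMon Cfsg.Agent.H136.M23.BWords
open Cfsg.Agent.H875.M23.TraceChar (chi chi_eq chi_irr chi_one chi_rat)
open Cfsg.Agent.LThreeMB (fr XX KChart.pi)
open Cfsg.Spor (Co1)

/-- a conjugate of `x` induces `xx` -/
theorem exists_xx {x : centralizer ({zz} : Set Gam)} (hx : orderOf x = 5)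
    (hN : ((x : Gam) : Space.V ≃ₗ[ℚ] Space.V) ∈ Conc.N) :
    ∃ c : centralizer ({zz} : Set Gam), KChart.pi MFive.Row.hc (c * x * c⁻¹) = MFiveHN.Cent.xx := by
  obtain ⟨s, hs⟩ := isConj_iff.1 (CoFive.Ranks.isConj_of_fr (MFive.orderOf_pi chart Nat.prime_five (by decide) hx)
    MFiveHN.Cent.order_x ((fr_eq hx hN).trans MFiveHN.Inst.fr_xx.symm))
  obtain ⟨c, hc⟩ := chart.pi_surj s
  exact ⟨c, by rw [map_mul, map_mul, map_inv, hc, hs]⟩

/-- **`z` is in `T`, `|C_T(z)| = 3686400`.** -/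
theorem card_cz {x : centralizer ({zz} : Set Gam)} (hx : orderOf x = 5)
    (hN : ((x : Gam) : Space.V ≃ₗ[ℚ] Space.V) ∈ Conc.N) {T : Subgroup Gam} (hT : DP Spor.HN 5 (x : Gam) T) :
    ∃ z : T, (z : Gam) = zz ∧ orderOf z = 2 ∧ Nat.card (centralizer ({z} : Set T)) = 3686400 := by
  have hfin : Finite Gam := inferInstance
  obtain ⟨e⟩ := hT.iso
  have hoz : orderOf (zz : Gam) = 2 := Cfsg.Agent.BpSpor.MBigModel.orderOf_zz
  have hzz : (zz : Gam) ^ 2 = 1 := by rw [← hoz, pow_orderOf_eq_one]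
  have hzx : zz * (x : Gam) = x * zz := (mem_centralizer_singleton_iff.1 x.2).symm
  have hzT : (zz : Gam) ∈ T := H66.M23.Five.DP.mem_of_pow Nat.prime_five hT hzz (by norm_num) hzx
  let z' : T := ⟨zz, hzT⟩
  have hz' : orderOf z' = 2 := by rw [← hoz]; exact Subgroup.orderOf_mk zz _
  refine ⟨z', rfl, hz', ?_⟩
  rcases H66.M23.Five.two_conj e hz' with ⟨-, h⟩ | ⟨-, h⟩
  · exfalso
    have : Fact (Nat.Prime 7) := ⟨by norm_num⟩
    obtain ⟨w, hw⟩ := exists_prime_orderOf_dvd_card' 7 (show 7 ∣ Nat.card (centralizer ({z'} : Set T)) by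
      rw [h]; norm_num)
    have h1 : orderOf (((w : T) : Gam)) = 7 := by rw [Subgroup.orderOf_coe, Subgroup.orderOf_coe, hw]
    have h2 : ((w : T) : Gam) * zz = zz * ((w : T) : Gam) :=
      congrArg Subtype.val (mem_centralizer_singleton_iff.1 w.2)
    have h3 : ((w : T) : Gam) * (x : Gam) = x * ((w : T) : Gam) :=
      mem_centralizer_singleton_iff.1 (hT.le (w : T).2)
    obtain ⟨c, hc⟩ := exists_xx hx hN
    have hcz : (c : Gam) * zz = zz * c := mem_centralizer_singleton_iff.1 c.2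
    have hcz' : (c : Gam) * zz * (c : Gam)⁻¹ = zz := by rw [hcz, mul_inv_cancel_right]
    refine H66.M23.Five.card_inf_dvd (w := 7) (by norm_num) (by decide) (by norm_num) (u := c * x * c⁻¹) hc
      (g := (c : Gam) * ((w : T) : Gam) * (c : Gam)⁻¹) ?_ ?_ ?_
    · rw [← h1]
      exact MulEquiv.orderOf_eq (MulAut.conj (c : Gam)) _
    · have h4 : (c : Gam) * ((w : T) : Gam) * (c : Gam)⁻¹ * ((c : Gam) * zz * (c : Gam)⁻¹) =
          (c : Gam) * zz * (c : Gam)⁻¹ * ((c : Gam) * ((w : T) : Gam) * (c : Gam)⁻¹) := by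
        calc _ = (c : Gam) * (((w : T) : Gam) * zz) * (c : Gam)⁻¹ := by group
          _ = (c : Gam) * (zz * ((w : T) : Gam)) * (c : Gam)⁻¹ := by rw [h2]
          _ = _ := by group
      rw [hcz'] at h4
      exact h4
    · show (c : Gam) * ((w : T) : Gam) * (c : Gam)⁻¹ * ((c : Gam) * (x : Gam) * (c : Gam)⁻¹) =
          (c : Gam) * (x : Gam) * (c : Gam)⁻¹ * ((c : Gam) * ((w : T) : Gam) * (c : Gam)⁻¹)
      calc _ = (c : Gam) * (((w : T) : Gam) * (x : Gam)) * (c : Gam)⁻¹ := by group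
        _ = (c : Gam) * ((x : Gam) * ((w : T) : Gam)) * (c : Gam)⁻¹ := by rw [h3]
        _ = _ := by group
  · exact h

theorem uz_all : uz.all inN = true := by decide

/-- `chi (v z) = 5` -/
theorem chi_xz : chi ((xu : Gam) * zz) = 5 := by
  have h := chi_gN uz_all uz_t1
  rw [pow_one] at h
  have e : (gN uz uz_all : Gam) = zz * (xu : Gam) := by
    apply Subtype.ext
    have h1 : W uz = E 45 * W u := by
      show W ([37, 37] ++ [45]) = _
      rw [W_append, W_single]
      rfl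
    have h2 : ((zz : Gam) : Space.V ≃ₗ[ℚ] Space.V) = E 45 := KDone.lnk.z_eq.symm
    show W uz = ((zz : Gam) : Space.V ≃ₗ[ℚ] Space.V) * W u
    rw [h2, h1]
  rw [e] at h
  have h3 : (xu : Gam) * zz = zz * (xu : Gam) := mem_centralizer_singleton_iff.1 xu.2
  rw [h3]
  exact h.trans (by norm_num)

/-- **The words of [BETA].** -/
theorem words {T : Subgroup Gam} (hT : DP Spor.HN 5 (xu : Gam) T) (e : Spor.HN ≃* T) (b : Spor.HN → ℤ)
    (hb : ∀ h, chi ((xu : Gam) * (e h : Gam)) = b h) : H616.M23.Words b := by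
  have V := vals hT
  have key : ∀ y : Gam, (hy : y ∈ T) → ∀ k : ℕ, ∀ n : ℤ, chi ((xu : Gam) * y ^ k) = n →
      b ((e.symm ⟨y, hy⟩) ^ k) = n := by
    intro y hy k n h
    have h1 := hb ((e.symm ⟨y, hy⟩) ^ k)
    rw [map_pow, e.apply_symm_apply] at h1
    have h2 : chi ((xu : Gam) * y ^ k) = b ((e.symm ⟨y, hy⟩) ^ k) := h1
    rw [h] at h2
    exact_mod_cast h2.symm
  have ord : ∀ y : Gam, (hy : y ∈ T) → orderOf (e.symm ⟨y, hy⟩) = orderOf y := by
    intro y hy
    rw [e.symm.orderOf_eq, Subgroup.orderOf_mk]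
  have key1 : ∀ y : Gam, (hy : y ∈ T) → ∀ n : ℤ, chi ((xu : Gam) * y) = n → b (e.symm ⟨y, hy⟩) = n := by
    intro y hy n h
    have h1 := key y hy 1 n (by rw [pow_one]; exact h)
    rwa [pow_one] at h1
  refine ⟨?_, ?_, ?_, ?_, ?_, ?_⟩
  · obtain ⟨y, hy, o, v1, v2, v3, v4, v6⟩ := V.b12
    exact ⟨e.symm ⟨y, hy⟩, by rw [ord, o], key1 y hy _ (by rw [v1]; norm_num), key y hy 2 _ (by rw [v2]; norm_num),
      key y hy 3 _ (by rw [v3]; norm_num), key y hy 4 _ (by rw [v4]; norm_num), key y hy 6 _ (by rw [v6]; norm_num)⟩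
  · obtain ⟨y, hy, o, v1, v2, v3, v4, v6⟩ := V.a12
    exact ⟨e.symm ⟨y, hy⟩, by rw [ord, o], key1 y hy _ (by rw [v1]; norm_num), key y hy 2 _ (by rw [v2]; norm_num),
      key y hy 3 _ (by rw [v3]; norm_num), key y hy 4 _ (by rw [v4]; norm_num), key y hy 6 _ (by rw [v6]; norm_num)⟩
  · obtain ⟨y, hy, o, v1, v2, v4⟩ := V.a8
    exact ⟨e.symm ⟨y, hy⟩, by rw [ord, o], key1 y hy _ (by rw [v1]; norm_num), key y hy 2 _ (by rw [v2]; norm_num),
      key y hy 4 _ (by rw [v4]; norm_num)⟩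
  · obtain ⟨y, hy, o, v1, v2, v4⟩ := V.b8
    exact ⟨e.symm ⟨y, hy⟩, by rw [ord, o], key1 y hy _ (by rw [v1]; norm_num), key y hy 2 _ (by rw [v2]; norm_num),
      key y hy 4 _ (by rw [v4]; norm_num)⟩
  · obtain ⟨y, hy, o, v1, v2⟩ := V.c4
    exact ⟨e.symm ⟨y, hy⟩, by rw [ord, o], key1 y hy _ (by rw [v1]; norm_num), key y hy 2 _ (by rw [v2]; norm_num)⟩
  · obtain ⟨z, hz, o, hc⟩ := card_cz orderOf_xu xu_mem hT
    refine ⟨e.symm z, by rw [e.symm.orderOf_eq, o], ?_, ?_⟩
    · rw [← hc]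
      exact (H66.M23.Five.card_cent_equiv e.symm z).symm
    · have h1 := hb (e.symm z)
      rw [e.apply_symm_apply, hz, chi_xz] at h1
      exact_mod_cast h1.symm

end Cfsg.Agent.H136.M23.BZ
end
end

-- part: H616/M23/Base
section
set_option linter.all false
open scoped Cfsg.Agent.FastGrp

-- part: H616/M23/LocalXu
section
/-!
# (M,23) of S4929: helper66's local data at the element `W [37, 37]` (helper616)

Adapted from helper66's `Five.local_five`, for a given pair `x`, `T`.
-/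

set_option autoImplicit false
set_option maxRecDepth 100000

namespace Cfsg.Agent.H616.M23.LocalXu

open Cfsg Cfsg.Agent.H241.Mon Cfsg.Agent.MonsterX.MainBasic
open Cfsg.Agent.MonsterX Cfsg.Agent.MonsterX.InstData Cfsg.Agent.MonsterU
open Subgroup (centralizer zpowers mem_centralizer_singleton_iff)
open Cfsg.Agent.MonsterX.Conc Cfsg.Agent.MonsterX.ConcGrp
open Cfsg.Agent.H66.M23.Loc Cfsg.Agent.H66.M23.Five Cfsg.Agent.H136.M23.BMon
open Cfsg.Agent.LThreeMB (fr XX KChart.pi)
open Cfsg.Agent.BpSpor.MBigModel (MG card_cent_z card_cent_t)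

/-- **The local structure of the class 5A**, at `x`. -/
theorem local_of {x : centralizer ({zz} : Set Gam)} (hx : orderOf x = 5)
    (hN : ((x : Gam) : Space.V ≃ₗ[ℚ] Space.V) ∈ Conc.N)
    (hr : ∀ n : ℕ, n % 5 ≠ 0 → ∃ c : Gam, c * (x : Gam) * c⁻¹ = (x : Gam) ^ n)
    {T : Subgroup Gam} (hT : DP Spor.HN 5 (x : Gam) T) : ∃ (C : Subgroup Gam) (t y : T), Local (x : Gam) C T t y := by
  have hfin : Finite Gam := inferInstance
  have hfinHN : Finite Spor.HN := Nat.finite_of_card_ne_zero (by rw [Cfsg.Agent.S2056.card_HN]; norm_num)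
  obtain ⟨e⟩ := hT.iso
  obtain ⟨u0, t0, hu0, hpu0, hta0, hut0⟩ := exists_base
  have hx5 : x ^ 5 = 1 := by rw [← hx, pow_orderOf_eq_one]
  obtain ⟨c, hc⟩ := H136.M23.BZ.exists_xx hx hN
  obtain ⟨d, hd⟩ := MFive.exists_conj_of_conj chart Nat.prime_five (by decide) hx5 (y := u0)
    (by rw [← hu0, pow_orderOf_eq_one]) (s := KChart.pi MFive.Row.hc c)
    (by rw [← map_mul, ← map_inv, ← map_mul, hc]; exact hpu0.symm)
  have hd' : (d : Gam) * (x : Gam) * (d : Gam)⁻¹ = (u0 : Gam) := congrArg Subtype.val hd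
  have hcardT : Nat.card T = 273030912000000 := by rw [Nat.card_congr e.toEquiv, Cfsg.Agent.S2056.card_HN]
  -- the involution `t`
  let t : Gam := (d : Gam)⁻¹ * t0 * (d : Gam)
  have hta : LThreeB.Row.TA t := by
    exact IsConj.trans (b := t0) hta0 (isConj_iff.2 ⟨(d : Gam)⁻¹, by rw [inv_inv]⟩)
  have hut : (x : Gam) * t = t * x := by
    have h1 : (x : Gam) = (d : Gam)⁻¹ * (u0 : Gam) * (d : Gam) := by rw [← hd']; group
    show (x : Gam) * ((d : Gam)⁻¹ * t0 * (d : Gam)) = (d : Gam)⁻¹ * t0 * (d : Gam) * x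
    calc (x : Gam) * ((d : Gam)⁻¹ * t0 * (d : Gam)) = (d : Gam)⁻¹ * ((u0 : Gam) * t0) * (d : Gam) := by
          rw [h1]; group
      _ = (d : Gam)⁻¹ * (t0 * (u0 : Gam)) * (d : Gam) := by rw [hut0]
      _ = _ := by rw [h1]; group
  have ht2 : orderOf t = 2 := LThreeB.Final.orderOf_of_TA hta
  have htt : t ^ 2 = 1 := by rw [← ht2, pow_orderOf_eq_one]
  have htT : t ∈ T := H66.M23.Five.DP.mem_of_pow Nat.prime_five hT htt (by norm_num) hut.symm
  let t' : T := ⟨t, htT⟩
  obtain ⟨z', hz'z, hz', hcz⟩ := H136.M23.BZ.card_cz hx hN hT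
  have ht' : orderOf t' = 2 := by rw [← ht2]; exact Subgroup.orderOf_mk t _
  have hct := card_cent_t hta
  -- `z` is not conjugate to `t`
  have hnz : ¬ IsConj t (z' : Gam) := by
    intro h
    rw [hz'z] at h
    have h1 := card_cent_isConj h
    rw [hct, card_cent_z] at h1
    norm_num at h1
  have hcT : Nat.card (centralizer ({t'} : Set T)) = 177408000 := by
    rcases two_conj e ht' with ⟨-, h⟩ | ⟨-, h⟩
    · exact h
    · exfalso
      apply hnz
      obtain ⟨c, hc⟩ := isConj_iff.1 (isConj_of_card e ht' hz' (by rw [h, hcz]))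
      exact isConj_iff.2 ⟨c, congrArg Subtype.val hc⟩
  have hfus : ∀ s : T, IsConj (t' : Gam) (s : Gam) ↔ IsConj t' s := by
    intro s
    constructor
    · intro h
      have hso : orderOf s = 2 := by
        rw [← ht2, ← Subgroup.orderOf_coe]
        obtain ⟨c, hc⟩ := isConj_iff.1 h
        rw [← hc]
        exact MulEquiv.orderOf_eq (MulAut.conj c) t
      rcases two_conj e hso with ⟨-, h1⟩ | ⟨-, h1⟩
      · exact isConj_of_card e ht' hso (by rw [hcT, h1])
      · exfalso
        apply hnz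
        obtain ⟨c, hc⟩ := isConj_iff.1 (isConj_of_card e hso hz' (by rw [h1, hcz]))
        exact h.trans (isConj_iff.2 ⟨c, congrArg Subtype.val hc⟩)
    · intro h
      obtain ⟨c, hc⟩ := isConj_iff.1 h
      exact isConj_iff.2 ⟨c, congrArg Subtype.val hc⟩
  have : Fact (Nat.Prime 11) := ⟨by norm_num⟩
  obtain ⟨y, hy⟩ := exists_prime_orderOf_dvd_card' 11 (show 11 ∣ Nat.card (centralizer ({t'} : Set T)) by
    rw [hcT]; norm_num)
  refine ⟨centralizer ({(x : Gam)} : Set Gam), t', (y : T), ?_⟩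
  refine ⟨⟨e⟩, hT.ord, rfl, hT.le, hT.card, hT.not_mem, ?_, ?_, hcardT, ht', hta, ?_, hcT, hfus, ?_, ?_, ?_, ?_⟩
  · intro k hk
    exact hr k (by omega)
  · intro g hg t ht
    have h1 : g * (x : Gam) * g⁻¹ ∈ zpowers (x : Gam) :=
      (Subgroup.mem_normalizer_iff.1 hg (x : Gam)).1 (Subgroup.mem_zpowers _)
    obtain ⟨k, hk⟩ := Subgroup.mem_zpowers_iff.1 h1
    exact hT.conj_mem Nat.prime_five hk.symm t ht
  · rw [show ((t' : T) : Gam) = t from rfl, hct]
  · intro s hs
    rw [hfus s]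
    constructor
    · intro h
      rw [← hcT]
      exact (card_cent_isConj h).symm
    · intro h
      exact isConj_of_card e ht' hs (by rw [hcT, h])
  · rw [Nat.card_congr (Equiv.subtypeEquivRight hfus)]
    have h1 := Cfsg.Agent.SmallSimple.Simple168.card_isConj_mul_card_centralizer t'
    rw [hcT, hcardT] at h1
    omega
  · rw [Subgroup.orderOf_coe, hy]
  · exact (mem_centralizer_singleton_iff.1 y.2).symm

/-- at `xu` -/
theorem local_xu {T : Subgroup Gam} (hT : DP Spor.HN 5 (H136.M23.BWords.xu : Gam) T) :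
    ∃ (C : Subgroup Gam) (t y : T), Local (H136.M23.BWords.xu : Gam) C T t y :=
  local_of H136.M23.BWords.orderOf_xu H136.M23.BWords.xu_mem H136.M23.BWords.xu_rat hT

end Cfsg.Agent.H616.M23.LocalXu
end

-- part: H616/M23/Fin
section
/-!
# (M,23) of S4929, [BETA]: the values `chi (u s)` (helper616)

`beta_values` : `u` of order 5, `C(u) = ⟨u⟩ × T`, `e : T ≃* HN`; then `chi (u s) = (ty (e s)).b` for `s` in `T` of order prime to 5.
-/

set_option autoImplicit false
set_option maxRecDepth 100000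

namespace Cfsg.Agent.H616.M23

open Cfsg Cfsg.Agent.MonsterX.InstData Cfsg.Agent.H651.HNF
open Cfsg.Agent.H875.M23.TraceChar (chi)

end Cfsg.Agent.H616.M23
end

-- part: H717/M23/SumsHN
section
/-!
# The relations of `Sums` for the Harada-Norton group (helper717)

`sums` : `Table Spor.HN ty` and `Bt b` give the relations of `H616.M23.Sums`.
-/

set_option autoImplicit false
set_option linter.unusedSectionVars false

namespace Cfsg.Agent.H717.M23.SumsHN

open Cfsg.Agent.H717.M23.Sums Cfsg.Agent.H651.HNF Cfsg.Agent.H616.M23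
open Equiv.Perm (mem_alternatingGroup sign)

theorem sm {H : Type} [Group H] [Finite H] {b : H → ℤ} (hb : Bt b) : Sm b := ⟨hb.conj, hb.sum⟩

theorem mem_rr (k : Fin 15) : rr k ∈ alternatingGroup (Fin 12) := mem_alternatingGroup.2 (rr_sign k)

section

variable {H : Type} [Group H] [Finite H] {Φ : alternatingGroup (Fin 12) →* H} {ty : H → Ty}

theorem isConj_rr {x : P12} (hx : sign x = 1) (k : Fin 15) (hT : x.cycleType = (rr k).cycleType) :
    IsConj (Φ ⟨x, mem_alternatingGroup.2 hx⟩) (Φ ⟨rr k, mem_rr k⟩) := by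
  obtain ⟨g, hg⟩ := isConj_iff.1 (Equiv.Perm.isConj_iff_cycleType_eq.2 hT)
  have hg' : g * x = rr k * g := by rw [← hg]; group
  have key : ∀ c : P12, sign c = 1 → c * x = rr k * c →
      IsConj (Φ ⟨x, mem_alternatingGroup.2 hx⟩) (Φ ⟨rr k, mem_rr k⟩) := by
    intro c hc h
    refine isConj_iff.2 ⟨Φ ⟨c, mem_alternatingGroup.2 hc⟩, ?_⟩
    rw [mul_inv_eq_iff_eq_mul, ← map_mul, ← map_mul]
    exact congrArg Φ (Subtype.ext h)
  rcases Int.units_eq_one_or (sign g) with h1 | h1
  · exact key g h1 hg'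
  · refine key (oo k * g) ?_ ?_
    · rw [map_mul, oo_sign, h1]; rfl
    · rw [mul_assoc, hg', ← mul_assoc, oo_comm, mul_assoc]

/-- the type of an even permutation -/
noncomputable def T (Φ : alternatingGroup (Fin 12) →* H) (ty : H → Ty) (k : Fin 15) : Ty := ty (Φ ⟨rr k, mem_rr k⟩)

theorem ty_of (hT : Table H ty) {x : P12} (hx : sign x = 1) (k : Fin 15) (h : x.cycleType = (rr k).cycleType) :
    ty (Φ ⟨x, mem_alternatingGroup.2 hx⟩) = T Φ ty k := hT.inv _ _ (isConj_rr hx k h)

theorem order_of (hΦ : Function.Injective Φ) {x : P12} (hx : x ∈ alternatingGroup (Fin 12)) :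
    orderOf (Φ ⟨x, hx⟩) = orderOf x := by
  rw [orderOf_injective Φ hΦ]
  exact (Subgroup.orderOf_coe (⟨x, hx⟩ : alternatingGroup (Fin 12))).symm

theorem ne_sing (hT : Table H ty) {g : H} (h : ¬ 5 ∣ orderOf g) : ty g ≠ .sing := fun h1 => h ((hT.sing g).1 h1)

theorem ord_rr (k : Fin 15) : orderOf (rr k) = (rr k).cycleType.lcm := (Equiv.Perm.lcm_cycleType _).symm

theorem ord1 : orderOf (rr 1) = 3 ∧ orderOf (rr 2) = 3 ∧ orderOf (rr 3) = 3 ∧ orderOf (rr 4) = 3 ∧ orderOf (rr 5) = 9 ∧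
    orderOf (rr 9) = 2 ∧ orderOf (rr 10) = 6 ∧ orderOf (rr 11) = 6 ∧ orderOf (rr 12) = 6 := by
  obtain ⟨-, h1, h2, h3, h4, h5, -, -, -, h9, h10, h11, h12, -⟩ := ty_rr
  simp only [ord_rr, h1, h2, h3, h4, h5, h9, h10, h11, h12]
  decide +kernel

/-- `7` divides the order of the centralizer -/
theorem seven_dvd (hΦ : Function.Injective Φ) {x y : P12} (hx : x ∈ alternatingGroup (Fin 12))
    (hy : y ∈ alternatingGroup (Fin 12)) (hxy : x * y = y * x) (h7 : orderOf y = 7) :
    7 ∣ Nat.card (Subgroup.centralizer ({Φ ⟨x, hx⟩} : Set H)) := by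
  have h1 : Φ ⟨y, hy⟩ ∈ Subgroup.centralizer ({Φ ⟨x, hx⟩} : Set H) := by
    rw [Subgroup.mem_centralizer_singleton_iff, ← map_mul, ← map_mul]
    exact congrArg Φ (Subtype.ext hxy.symm)
  have h2 : orderOf (⟨Φ ⟨y, hy⟩, h1⟩ : Subgroup.centralizer ({Φ ⟨x, hx⟩} : Set H)) ∣
      Nat.card (Subgroup.centralizer ({Φ ⟨x, hx⟩} : Set H)) := orderOf_dvd_natCard _
  rw [← Subgroup.orderOf_coe] at h2
  change orderOf (Φ ⟨y, hy⟩) ∣ _ at h2
  rwa [order_of hΦ, h7] at h2

/-- `(0 1 2 3 4 5 6)` -/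
def y7 (a b c d e f g : Fin 12) : P12 := Equiv.swap a b * Equiv.swap b c * Equiv.swap c d * Equiv.swap d e * Equiv.swap e f * Equiv.swap f g

theorem y7_1 : orderOf (y7 3 4 5 6 7 8 9) = 7 := by
  rw [← Equiv.Perm.lcm_cycleType]
  decide +kernel

theorem y7_2 : orderOf (y7 0 1 2 3 4 5 10) = 7 := by
  rw [← Equiv.Perm.lcm_cycleType]
  decide +kernel

/-- the 3-cycles are in `3A` -/
theorem T1 (hT : Table H ty) (hΦ : Function.Injective Φ) : T Φ ty 1 = .c3A := by
  have h3 := order_of hΦ (mem_rr 1)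
  rw [ord1.1] at h3
  have hs : ty (Φ ⟨rr 1, mem_rr 1⟩) ≠ .sing := ne_sing hT (by rw [h3]; norm_num)
  have h7 := seven_dvd hΦ (mem_rr 1) (y := y7 3 4 5 6 7 8 9) (by rw [mem_alternatingGroup]; decide +kernel)
    (by decide +kernel) y7_1
  rw [hT.cent _ hs] at h7
  have ho := hT.ord _ hs
  rw [h3] at ho
  unfold T
  generalize ty (Φ ⟨rr 1, mem_rr 1⟩) = t at *
  revert t
  decide

/-- `(6 7)(8 9)` -/
def t4 : P12 := Equiv.swap 6 7 * Equiv.swap 8 9

theorem t4_mem : t4 ∈ alternatingGroup (Fin 12) := by rw [mem_alternatingGroup]; decide +kernel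

theorem ty_t4 (hT : Table H ty) (hΦ : Function.Injective Φ) : ty (Φ ⟨t4, t4_mem⟩) = .c2A := by
  have h3 := order_of hΦ t4_mem
  have h3' : orderOf t4 = 2 := by
    rw [← Equiv.Perm.lcm_cycleType]
    decide +kernel
  rw [h3'] at h3
  have hs : ty (Φ ⟨t4, t4_mem⟩) ≠ .sing := ne_sing hT (by rw [h3]; norm_num)
  have h7 := seven_dvd hΦ t4_mem (y := y7 0 1 2 3 4 5 10) (by rw [mem_alternatingGroup]; decide +kernel)
    (by decide +kernel) y7_2
  rw [hT.cent _ hs] at h7
  have ho := hT.ord _ hs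
  rw [h3] at ho
  generalize ty (Φ ⟨t4, t4_mem⟩) = t at *
  revert t
  decide

/-- the type of a power -/
theorem ty_pow (hT : Table H ty) {x : P12} (hx : x ∈ alternatingGroup (Fin 12)) (p : ℕ) (hp : p.Prime)
    (hs : ty (Φ ⟨x, hx⟩) ≠ .sing) :
    ty (Φ ⟨x ^ p, Subgroup.pow_mem _ hx p⟩) = (ty (Φ ⟨x, hx⟩)).pw p := by
  rw [← hT.pow _ p hp hs, ← map_pow]
  rfl

/-- the elements `3²` are in `3A` -/
theorem T2 (hT : Table H ty) (hΦ : Function.Injective Φ) : T Φ ty 2 = .c3A := by
  have hm : rr 2 * t4 ∈ alternatingGroup (Fin 12) := Subgroup.mul_mem _ (mem_rr 2) t4_mem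
  have h6 : orderOf (rr 2 * t4) = 6 := by
    rw [← Equiv.Perm.lcm_cycleType]
    decide +kernel
  have h6' := order_of hΦ hm
  rw [h6] at h6'
  have hs : ty (Φ ⟨rr 2 * t4, hm⟩) ≠ .sing := ne_sing hT (by rw [h6']; norm_num)
  have h3 := ty_pow hT hm 3 (by norm_num) hs
  have e3 : (rr 2 * t4) ^ 3 = t4 := by decide +kernel
  have e4 : (⟨(rr 2 * t4) ^ 3, Subgroup.pow_mem _ hm 3⟩ : alternatingGroup (Fin 12)) = ⟨t4, t4_mem⟩ := Subtype.ext e3
  rw [e4, ty_t4 hT hΦ] at h3
  have h2 := ty_pow hT hm 2 (by norm_num) hs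
  have s5 : sign ((rr 2 * t4) ^ 2) = 1 := by decide +kernel
  have c5 : ((rr 2 * t4) ^ 2).cycleType = (rr 2).cycleType := by decide +kernel
  have h5 : ty (Φ ⟨(rr 2 * t4) ^ 2, Subgroup.pow_mem _ hm 2⟩) = T Φ ty 2 := ty_of hT s5 2 c5
  rw [h5] at h2
  rw [h2]
  have ho := hT.ord _ hs
  rw [h6'] at ho
  clear h2 h5 c5 s5 e4 e3 h6' h6
  generalize ty (Φ ⟨rr 2 * t4, hm⟩) = t at *
  revert t
  decide

theorem T3 (hT : Table H ty) (hΦ : Function.Injective Φ) : T Φ ty 3 = .c3A ∨ T Φ ty 3 = .c3B := by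
  have h3 := order_of hΦ (mem_rr 3)
  rw [ord1.2.2.1] at h3
  have hs : ty (Φ ⟨rr 3, mem_rr 3⟩) ≠ .sing := ne_sing hT (by rw [h3]; norm_num)
  have ho := hT.ord _ hs
  rw [h3] at ho
  unfold T
  generalize ty (Φ ⟨rr 3, mem_rr 3⟩) = t at *
  revert t
  decide

theorem T4 (hT : Table H ty) (hΦ : Function.Injective Φ) : T Φ ty 4 = .c3A ∨ T Φ ty 4 = .c3B := by
  have h3 := order_of hΦ (mem_rr 4)
  rw [ord1.2.2.2.1] at h3
  have hs : ty (Φ ⟨rr 4, mem_rr 4⟩) ≠ .sing := ne_sing hT (by rw [h3]; norm_num)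
  have ho := hT.ord _ hs
  rw [h3] at ho
  unfold T
  generalize ty (Φ ⟨rr 4, mem_rr 4⟩) = t at *
  revert t
  decide

theorem T5 (hT : Table H ty) (hΦ : Function.Injective Φ) : T Φ ty 5 = .c9 := by
  have h3 := order_of hΦ (mem_rr 5)
  rw [ord1.2.2.2.2.1] at h3
  have hs : ty (Φ ⟨rr 5, mem_rr 5⟩) ≠ .sing := ne_sing hT (by rw [h3]; norm_num)
  have ho := hT.ord _ hs
  rw [h3] at ho
  unfold T
  generalize ty (Φ ⟨rr 5, mem_rr 5⟩) = t at *
  revert t
  decide

/-- an involution of type `2²` is in `2A` -/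
theorem T6 (hT : Table H ty) (hΦ : Function.Injective Φ) : T Φ ty 6 = .c2A := by
  rw [← ty_t4 hT hΦ]
  exact (ty_of hT (mem_alternatingGroup.1 t4_mem) 6 (by decide +kernel)).symm

theorem T9 (hT : Table H ty) (hΦ : Function.Injective Φ) : T Φ ty 9 = .c2A ∨ T Φ ty 9 = .c2B := by
  have h3 := order_of hΦ (mem_rr 9)
  rw [ord1.2.2.2.2.2.1] at h3
  have hs : ty (Φ ⟨rr 9, mem_rr 9⟩) ≠ .sing := ne_sing hT (by rw [h3]; norm_num)
  have ho := hT.ord _ hs
  rw [h3] at ho
  unfold T
  generalize ty (Φ ⟨rr 9, mem_rr 9⟩) = t at *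
  revert t
  decide

/-- elements of order 6 -/
theorem T_six (hT : Table H ty) (hΦ : Function.Injective Φ) (k j l : Fin 15) (h6 : orderOf (rr k) = 6)
    (hj : (rr k ^ 3).cycleType = (rr j).cycleType) (hl : (rr k ^ 2).cycleType = (rr l).cycleType)
    (h2 : T Φ ty j = .c2B) :
    (T Φ ty l = .c3A → T Φ ty k = .c6B) ∧ (T Φ ty l = .c3B → T Φ ty k = .c6C) := by
  have h6' := order_of hΦ (mem_rr k)
  rw [h6] at h6'
  have hs : ty (Φ ⟨rr k, mem_rr k⟩) ≠ .sing := ne_sing hT (by rw [h6']; norm_num)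
  have e3 := ty_pow hT (mem_rr k) 3 (by norm_num) hs
  have e2 := ty_pow hT (mem_rr k) 2 (by norm_num) hs
  rw [ty_of hT (by rw [map_pow, rr_sign, one_pow]) j hj, h2] at e3
  rw [ty_of hT (by rw [map_pow, rr_sign, one_pow]) l hl] at e2
  have ho := hT.ord _ hs
  rw [h6'] at ho
  unfold T at *
  rw [e2]
  generalize ty (Φ ⟨rr k, mem_rr k⟩) = t at *
  clear e2
  revert t
  decide

end

/-! ### `HN` -/

open Cfsg.Agent.CpAutHN.Pairs Cfsg.Agent.CpAutHN.Alt Cfsg.Agent.CpAutHN.Tr Cfsg.Agent.H845.HNTr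

theorem tr_rr {x : P12} (hx : x ∈ alternatingGroup (Fin 12)) (k : Fin 15) (h : x.cycleType = (rr k).cycleType) :
    tr (Φ ⟨x, hx⟩) = tr (Φ ⟨rr k, mem_rr k⟩) := tr_conj (isConj_rr (mem_alternatingGroup.1 hx) k h)

theorem tr1 : tr (Φ ⟨rr 1, mem_rr 1⟩) = 7 := by
  rw [← tr_x1]
  exact (tr_rr x1_mem 1 (by decide +kernel)).symm

theorem tr3 : tr (Φ ⟨rr 3, mem_rr 3⟩) = 29 := by
  rw [← tr_x3]
  exact (tr_rr x3_mem 3 (by decide +kernel)).symm

theorem tr4 : tr (Φ ⟨rr 4, mem_rr 4⟩) = 7 := by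
  have hl : ∀ i ∈ l4, i < 10 := by decide
  rw [← tr_l4, ← Φ_wp hl]
  exact (tr_rr (wp_mem hl) 4 (by decide +kernel)).symm

theorem tr6 : tr (Φ ⟨rr 6, mem_rr 6⟩) = 21 := by
  rw [← tr_t2]
  exact (tr_rr t2_mem 6 (by decide +kernel)).symm

theorem tr9 : tr (Φ ⟨rr 9, mem_rr 9⟩) = 5 := by
  rw [← tr_s1]
  exact (tr_rr s1_mem 9 (by decide +kernel)).symm

variable [Finite Cfsg.Spor.HN] {ty : Cfsg.Spor.HN → Ty}

theorem types (hT : Table Cfsg.Spor.HN ty) : T Φ ty 1 = .c3A ∧ T Φ ty 2 = .c3A ∧ T Φ ty 3 = .c3B ∧ T Φ ty 4 = .c3A ∧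
    T Φ ty 5 = .c9 ∧ T Φ ty 9 = .c2B ∧ T Φ ty 10 = .c6B ∧ T Φ ty 11 = .c6B ∧ T Φ ty 12 = .c6C := by
  have h1 := T1 hT Φ_inj
  have h2 := T2 hT Φ_inj
  have h3 : T Φ ty 3 = .c3B := by
    rcases T3 hT Φ_inj with h | h
    · have h4 : IsConj (Φ ⟨rr 3, mem_rr 3⟩) (Φ ⟨rr 1, mem_rr 1⟩) :=
        hT.conj _ _ (h.trans h1.symm) (by rw [show ty _ = _ from h]; decide) (by rw [show ty _ = _ from h]; decide)
      have h5 := tr_conj h4
      rw [tr3, tr1] at h5
      exact absurd h5 (by decide)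
    · exact h
  have h4 : T Φ ty 4 = .c3A := by
    rcases T4 hT Φ_inj with h | h
    · exact h
    · have h4 : IsConj (Φ ⟨rr 4, mem_rr 4⟩) (Φ ⟨rr 3, mem_rr 3⟩) :=
        hT.conj _ _ (h.trans h3.symm) (by rw [show ty _ = _ from h]; decide) (by rw [show ty _ = _ from h]; decide)
      have h5 := tr_conj h4
      rw [tr4, tr3] at h5
      exact absurd h5 (by decide)
  have h6 := T6 hT Φ_inj
  have h9 : T Φ ty 9 = .c2B := by
    rcases T9 hT Φ_inj with h | h
    · have h4 : IsConj (Φ ⟨rr 9, mem_rr 9⟩) (Φ ⟨rr 6, mem_rr 6⟩) :=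
        hT.conj _ _ (h.trans h6.symm) (by rw [show ty _ = _ from h]; decide) (by rw [show ty _ = _ from h]; decide)
      have h5 := tr_conj h4
      rw [tr9, tr6] at h5
      exact absurd h5 (by decide)
    · exact h
  obtain ⟨-, -, -, -, -, -, o10, o11, o12⟩ := ord1
  exact ⟨h1, h2, h3, h4, T5 hT Φ_inj, h9,
    (T_six hT Φ_inj 10 9 1 o10 (by decide +kernel) (by decide +kernel) h9).1 h1,
    (T_six hT Φ_inj 11 9 2 o11 (by decide +kernel) (by decide +kernel) h9).1 h2,
    (T_six hT Φ_inj 12 9 3 o12 (by decide +kernel) (by decide +kernel) h9).2 h3⟩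

theorem B_ty (hT : Table Cfsg.Spor.HN ty) {b : Cfsg.Spor.HN → ℤ} (hb : Bt b) {k : Fin 15} {g : Cfsg.Spor.HN}
    (h : T Φ ty k = ty g) (h1 : ty g ≠ .sing) (h2 : ty g ≠ .c19) : B Φ b (rr k) = b g := by
  rw [B_eq Φ b (mem_rr k)]
  exact hb.conj _ _ (hT.conj _ _ h (by rw [show ty _ = _ from h]; exact h1) (by rw [show ty _ = _ from h]; exact h2))

theorem B_one {b : Cfsg.Spor.HN → ℤ} (hb : Bt b) : B Φ b (rr 0) = 133 := by
  rw [B_eq Φ b (mem_rr 0), ← hb.one]
  congr 1
  exact map_one Φ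

/-- **The relations.** -/
theorem sums (hT : Table Cfsg.Spor.HN ty) {b : Cfsg.Spor.HN → ℤ} (hb : Bt b) : H616.M23.Sums ty b := by
  obtain ⟨h1, h2, h3, h4, h5, h9, h10, h11, h12⟩ := types hT
  have k1 := B_one hb
  refine ⟨fun x y hx hy => ?_, fun x y z hx hy hz => ?_, fun s x y hs hx hy => ?_⟩
  · have h := S1 (Φ := Φ) (sm hb)
    rw [k1, B_ty hT hb (h1.trans hx.symm) (by rw [hx]; decide) (by rw [hx]; decide),
      B_ty hT hb (h2.trans hx.symm) (by rw [hx]; decide) (by rw [hx]; decide),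
      B_ty hT hb (h3.trans hy.symm) (by rw [hy]; decide) (by rw [hy]; decide),
      B_ty hT hb (h4.trans hx.symm) (by rw [hx]; decide) (by rw [hx]; decide)] at h
    omega
  · have h := S2 (Φ := Φ) (sm hb)
    rw [k1, B_ty hT hb (h1.trans hx.symm) (by rw [hx]; decide) (by rw [hx]; decide),
      B_ty hT hb (h2.trans hx.symm) (by rw [hx]; decide) (by rw [hx]; decide),
      B_ty hT hb (h3.trans hy.symm) (by rw [hy]; decide) (by rw [hy]; decide),
      B_ty hT hb (h5.trans hz.symm) (by rw [hz]; decide) (by rw [hz]; decide)] at h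
    omega
  · have h := S4 (Φ := Φ) (sm hb)
    rw [B_ty hT hb (h9.trans hs.symm) (by rw [hs]; decide) (by rw [hs]; decide),
      B_ty hT hb (h10.trans hx.symm) (by rw [hx]; decide) (by rw [hx]; decide),
      B_ty hT hb (h11.trans hx.symm) (by rw [hx]; decide) (by rw [hx]; decide),
      B_ty hT hb (h12.trans hy.symm) (by rw [hy]; decide) (by rw [hy]; decide)] at h
    omega

end Cfsg.Agent.H717.M23.SumsHN
end

-- part: H616/M23/Fin2
section
/-!
# (M,23) of S4929, [BETA]: the values, final form (helper616)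

`exists_b` : the only hypotheses are the class table of `HN` (helper651) and the values in the monomial group (helper136).
-/

set_option autoImplicit false
set_option maxRecDepth 100000

namespace Cfsg.Agent.H616.M23

open Cfsg Cfsg.Agent.MonsterX.InstData Cfsg.Agent.H651.HNF
open Cfsg.Agent.H875.M23.TraceChar (chi)

theorem finite_HN : Finite Spor.HN := Nat.finite_of_card_ne_zero (by
  rw [Cfsg.Agent.KFacts.HN.Classes.card_HN]
  norm_num)

/-- **The values of `chi` on the section of `5A`**, in the form of `H592.HN.final`. -/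
theorem exists_b {u : ↥M.G} {T : Subgroup ↥M.G} (hu : orderOf u = 5)
    (hle : T ≤ Subgroup.centralizer ({u} : Set ↥M.G))
    (hsplit : ∀ c ∈ Subgroup.centralizer ({u} : Set ↥M.G), ∃ i : ℕ, ∃ t ∈ T, c = u ^ i * t)
    (hVu : chi u = 133) (e : Spor.HN ≃* T) {ty : Spor.HN → Ty} (hT : Table Spor.HN ty)
    (W : ∀ b : Spor.HN → ℤ, (∀ h, chi (u * ((e h : T) : ↥M.G)) = b h) → Words b) :
    ∃ b : Spor.HN → ℤ, (∀ h, chi (u * ((e h : T) : ↥M.G)) = b h) ∧ ∀ g, ty g ≠ .sing → b g = (ty g).b := by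
  have := finite_HN
  obtain ⟨b, hb, hbt⟩ := exists_bt_chi hu hle hsplit hVu e
  exact ⟨b, hb, fun g hg => val hT hbt (W b hb) (H717.M23.SumsHN.sums hT hbt) hg⟩

/-- the same with helper66's structure -/
theorem exists_b_dp {u : ↥M.G} {T : Subgroup ↥M.G} (h : H66.M23.Loc.DP Spor.HN 5 u T) (hVu : chi u = 133)
    (e : Spor.HN ≃* T) {ty : Spor.HN → Ty} (hT : Table Spor.HN ty)
    (W : ∀ b : Spor.HN → ℤ, (∀ h, chi (u * ((e h : T) : ↥M.G)) = b h) → Words b) :
    ∃ b : Spor.HN → ℤ, (∀ h, chi (u * ((e h : T) : ↥M.G)) = b h) ∧ ∀ g, ty g ≠ .sing → b g = (ty g).b :=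
  exists_b h.ord h.le h.split hVu e hT W

end Cfsg.Agent.H616.M23
end

-- part: H616/M23/Base
section
/-!
# (M,23) of S4929: the element of the class 5A with the values in the monomial group (helper616)

`base` : the local data of helper66 at the element `W [37, 37]` of helper136.
-/

set_option autoImplicit false
set_option maxRecDepth 100000

namespace Cfsg.Agent.H616.M23

open Cfsg
open Cfsg.Agent.H875.M23.TraceChar (chi)
open Cfsg.Agent.BpSpor.MBigModel (MG)

/-- **[BETA]**, complete up to the class table of `HN`: the local data and the values of `chi`. -/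
theorem base_values {ty : Spor.HN → H651.HNF.Ty} (hT : H651.HNF.Table Spor.HN ty) :
    ∃ (u : MG) (C T : Subgroup MG) (t y : T), H66.M23.Five.Local u C T t y ∧ chi u = 133 ∧
    ∃ (e : Spor.HN ≃* T) (b : Spor.HN → ℤ), (∀ h, chi (u * ((e h : T) : MG)) = b h) ∧
      ∀ g, ty g ≠ .sing → b g = (ty g).b := by
  obtain ⟨T, hdp⟩ := H136.M23.BWords.exists_dp_xu
  obtain ⟨C, t, y, L⟩ := LocalXu.local_xu hdp
  obtain ⟨e⟩ := hdp.iso
  obtain ⟨b, hb, hv⟩ := exists_b_dp hdp H136.M23.BWords.chi_xu e.symm hT (H136.M23.BZ.words hdp e.symm)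
  exact ⟨_, C, T, t, y, L, H136.M23.BWords.chi_xu, e.symm, b, hb, hv⟩

end Cfsg.Agent.H616.M23
end
end
end
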